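import Cfsg.Agent.Lib.Classical.TensorPowSymp.Kinds
import Cfsg.Agent.Lib.Classical.TensorPowForm.Algebra
import Cfsg.Agent.Lib.Classical.MaxTensorSymp

/-!
Spaces of matrices on a tensor power of a symplectic space in characteristic two, closed under products and invariant
under the symplectic groups of the factors: a non-scalar member gives all matrices at one factor.
-/

set_option autoImplicit false
set_option linter.unusedSectionVars false
set_option linter.unusedSimpArgs false

namespace Cfsg.Agent.Classical.TensorSympEven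

open Matrix Module MaxTv TensorPow
open Cfsg.Agent.Classical.TensorMax (Alt)
open Cfsg.Agent.Classical.TensorSymp (Symp Iso vN vN_mulVec vN_mul_self ne_smul_symm)
open Cfsg.Agent.Classical.TensorPowForm (Closed com_closed et_yop' yop_et_com)

variable {F : Type*} [Field F] [Fintype F] {κ β : Type} [Fintype κ] [DecidableEq κ] [Fintype β] [DecidableEq β]

local notation "X" => (κ → β)
local notation "Mn" => Matrix (κ → β) (κ → β) F
local notation "Mb" => Matrix β β F

/-- The hypotheses on the set. -/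
structure MAlg (h : (β → F) → (β → F) → F) (P : Matrix (κ → β) (κ → β) F → Prop) : Prop where
  add : ∀ {R S}, P R → P S → P (R + S)
  smul : ∀ {R} (r : F), P R → P (r • R)
  mul : ∀ {R S}, P R → P S → P (R * S)
  conj : ∀ {R} (j : κ) (E : GL β F), E ∈ Iso h → P R →
    P (et j (E : Matrix β β F) * R * et j ((E⁻¹ : GL β F) : Matrix β β F))

theorem et_com_com {l : κ} {R W : Mn} (hR : Com l R) (hW : Com l W) : Com l (R * W) := fun T => by
  rw [← mul_assoc, hR, mul_assoc, hW, mul_assoc]

/-- Products of products at one factor. -/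
theorem et_pair {j : κ} {A : Mn} (hA : Com j A) (S T : Mb) (B : Mn) :
    et j S * A * (et j T * B) = et j (S * T) * (A * B) := by
  rw [mul_assoc, ← mul_assoc A, ← hA, ← mul_assoc, ← mul_assoc, et_mul, mul_assoc]

theorem et_zero (j : κ) : et (F := F) (κ := κ) (β := β) j 0 = 0 := by
  rw [show (0 : Mb) = (0 : F) • (1 : Mb) by rw [zero_smul], et_smul, zero_smul]

theorem com_smul {l : κ} {R : Mn} (r : F) (hR : Com l R) : Com l (r • R) := fun T => by
  rw [Matrix.mul_smul, Matrix.smul_mul, hR]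

theorem com_add {l : κ} {R S : Mn} (hR : Com l R) (hS : Com l S) : Com l (R + S) := fun T => by
  rw [mul_add, add_mul, hR, hS]

theorem com_wm {l : κ} {gs : κ → Mb} (hl : gs l = 1) : Com l (wm (1 : Equiv.Perm κ) gs) := fun T =>
  (wm_update_ne gs hl T).symm

theorem wm_of_et (gs : κ → Mb) (a : κ) :
    wm (1 : Equiv.Perm κ) gs = wm 1 (Function.update gs a 1) * et a (gs a) := by
  rw [wm_update _ (Function.update_self _ _ _), Function.update_idem, Function.update_eq_self]

/-- Splitting off a factor of a conjugate. -/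
theorem conj_insert {gs : κ → GL β F} {a : κ} {R : Mn} :
    wm (1 : Equiv.Perm κ) (fun l => (gs l : Mb)) * R * wm 1 (fun l => (((gs l)⁻¹ : GL β F) : Mb)) =
      et a (gs a : Mb) * (wm 1 (fun l => ((Function.update gs a 1 l : GL β F) : Mb)) * R *
        wm 1 (fun l => (((Function.update gs a 1 l)⁻¹ : GL β F) : Mb))) * et a (((gs a)⁻¹ : GL β F) : Mb) := by
  have e1 : (fun l => ((Function.update gs a 1 l : GL β F) : Mb)) = Function.update (fun l => (gs l : Mb)) a 1 := by
    funext l
    by_cases e : l = a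
    · subst e; simp
    · simp [e]
  have e2 : (fun l => (((Function.update gs a 1 l)⁻¹ : GL β F) : Mb)) =
      Function.update (fun l => (((gs l)⁻¹ : GL β F) : Mb)) a 1 := by
    funext l
    by_cases e : l = a
    · subst e; simp
    · simp [e]
  conv_lhs => rw [wm_of_et (fun l => (gs l : Mb)) a, wm_of_et (fun l => (((gs l)⁻¹ : GL β F) : Mb)) a]
  rw [e1, e2, wm_update_ne _ (Function.update_self _ _ _)]
  simp only [mul_assoc]

variable {h : (β → F) → (β → F) → F} (hh : Symp h)
include hh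

theorem symp_symm' (h2 : (2 : F) = 0) (u v : β → F) : h v u = h u v := by
  rw [hh.skew]; linear_combination -(h u v) * h2

/-- The isometries span all maps. -/
theorem sp_span (p : Submodule F Mb) (hp : ∀ B : GL β F, B ∈ Iso h → (B : Mb) ∈ p) (T : Mb) : T ∈ p := by
  classical
  have h1 : ∀ (v : β → F) (B : GL β F), B ∈ Iso h → vN h v * (B : Mb) ∈ p := fun v B hB => by
    obtain ⟨E, hE, e1, -, -⟩ := hh.exists_tv v 1
    have := p.sub_mem (hp _ (mul_mem hE hB)) (hp _ hB)
    rwa [Units.val_mul, e1, one_smul, add_mul, one_mul, add_sub_cancel_left] at this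
  have h2 : ∀ v u : β → F, vN h v * vN h u ∈ p := fun v u => by
    obtain ⟨E, hE, e1, -, -⟩ := hh.exists_tv u 1
    have := p.sub_mem (h1 v E hE) (h1 v 1 (one_mem _))
    rwa [e1, one_smul, Units.val_one, mul_add, mul_one, add_sub_cancel_left] at this
  have h3 : ∀ v u : β → F, h u v ≠ 0 → vecMulVec v (fn h u) ∈ p := fun v u huv => by
    have := p.smul_mem (h u v)⁻¹ (h2 v u)
    rwa [vN, vN, vmv_mul, fn_dot hh.toSesq, smul_smul, inv_mul_cancel₀ huv, one_smul] at this
  have h4 : ∀ v φ : β → F, vecMulVec v φ ∈ p := fun v φ => by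
    obtain ⟨u, rfl⟩ := fn_surjective hh.toSesq φ
    rcases eq_or_ne v 0 with rfl | hv
    · simp
    by_cases huv : h u v = 0
    · obtain ⟨x, hx, -⟩ := hh.partner hv
      have hux : h (u + x) v ≠ 0 := by rw [hh.add_left, huv, hx, zero_add]; exact one_ne_zero
      have := p.sub_mem (h3 v (u + x) hux) (h3 v x (by rw [hx]; exact one_ne_zero))
      rwa [fn_add hh.toSesq, Matrix.vecMulVec_add, add_sub_cancel_right] at this
    · exact h3 v u huv
  rw [Matrix.matrix_eq_sum_single T]
  refine p.sum_mem fun a _ => p.sum_mem fun b _ => ?_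
  rw [show Matrix.single a b (T a b) = T a b • Matrix.single a b (1 : F) by rw [Matrix.smul_single, smul_eq_mul, mul_one],
    single_eq_vmv]
  exact p.smul_mem _ (h4 _ _)

/-- Two matrices with a non-zero product after inserting isometries of the factors. -/
theorem exists_between {a b : Mn} (ha : a ≠ 0) (hb : b ≠ 0) :
    ∃ gs : κ → GL β F, (∀ l, gs l ∈ Iso h) ∧ a * wm 1 (fun l => (gs l : Mb)) * b ≠ 0 := by
  classical
  by_contra hc
  push Not at hc
  have key : ∀ (s : Finset κ) (gs : κ → Mb), (∀ l ∉ s, ∃ B : GL β F, B ∈ Iso h ∧ gs l = (B : Mb)) →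
      a * wm 1 gs * b = 0 := by
    intro s
    induction s using Finset.induction_on with
    | empty =>
      intro gs hgs
      choose B hB hBe using fun l => hgs l (Finset.notMem_empty l)
      rw [show gs = fun l => (B l : Mb) from funext hBe]
      exact hc B hB
    | insert j s hj ih =>
      intro gs hgs
      let p : Submodule F Mb :=
        { carrier := {T | a * wm 1 (Function.update gs j T) * b = 0}
          add_mem' := fun {S T} hS hT => by
            show a * wm 1 (Function.update gs j (S + T)) * b = 0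
            rw [wm_update_add, mul_add, add_mul, hS, hT, add_zero]
          zero_mem' := by
            show a * wm 1 (Function.update gs j 0) * b = 0
            rw [show (0 : Mb) = (0 : F) • (1 : Mb) by rw [zero_smul], wm_update_smul, zero_smul, mul_zero, zero_mul]
          smul_mem' := fun r T hT => by
            show a * wm 1 (Function.update gs j (r • T)) * b = 0
            rw [wm_update_smul, Matrix.mul_smul, Matrix.smul_mul, hT, smul_zero] }
      have hT : gs j ∈ p := sp_span hh p (fun B hB => ih _ fun l hl => by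
        by_cases e : l = j
        · subst e; exact ⟨B, hB, Function.update_self _ _ _⟩
        · rw [Function.update_of_ne e]; exact hgs l (by simp [e, hl])) _
      have : a * wm 1 (Function.update gs j (gs j)) * b = 0 := hT
      rwa [Function.update_eq_self] at this
  obtain ⟨p, q, hpq⟩ : ∃ p q, a p q ≠ 0 := by
    by_contra hc'
    push Not at hc'
    exact ha (Matrix.ext hc')
  obtain ⟨r, s, hrs⟩ : ∃ r s, b r s ≠ 0 := by
    by_contra hc'
    push Not at hc'
    exact hb (Matrix.ext hc')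
  have h0 := key Finset.univ (fun l => Matrix.single (q l) (r l) (1 : F)) fun l hl => absurd (Finset.mem_univ l) hl
  have hs : wm (1 : Equiv.Perm κ) (fun l => Matrix.single (q l) (r l) (1 : F)) = Matrix.single q r 1 := by
    rw [single_eq_wm]
    exact wm_congr rfl fun l => single_eq_vmv _ _
  rw [hs] at h0
  have h1 := congrFun (congrFun h0 p) s
  simp [Matrix.mul_apply, Matrix.single_apply, ite_and, Finset.sum_ite_eq, Finset.sum_ite_eq'] at h1
  rcases h1 with h1 | h1
  exacts [hpq h1, hrs h1]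

variable {P : Matrix (κ → β) (κ → β) F → Prop}

/-- Conjugating by isometries at all factors. -/
theorem MAlg.conj_all (hP : MAlg h P) {R : Mn} (hR : P R) (gs : κ → GL β F) (hgs : ∀ l, gs l ∈ Iso h) :
    P (wm 1 (fun l => (gs l : Mb)) * R * wm 1 (fun l => (((gs l)⁻¹ : GL β F) : Mb))) := by
  classical
  suffices main : ∀ (s : Finset κ) (gs : κ → GL β F), (∀ l, gs l ∈ Iso h) → (∀ l ∉ s, gs l = 1) →
      P (wm 1 (fun l => (gs l : Mb)) * R * wm 1 (fun l => (((gs l)⁻¹ : GL β F) : Mb))) from
    main Finset.univ gs hgs fun l hl => absurd (Finset.mem_univ l) hl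
  intro s
  induction s using Finset.induction_on with
  | empty =>
    intro gs _ hgs
    simp only [fun l => hgs l (Finset.notMem_empty l), Units.val_one, inv_one]
    rw [show (fun _ : κ => (1 : Mb)) = 1 from rfl, wm1_one, one_mul, mul_one]
    exact hR
  | insert a s ha ih =>
    intro gs hgs hout
    rw [conj_insert (a := a)]
    exact hP.conj a _ (hgs a) (ih _ (fun l => by
      by_cases e : l = a
      · subst e; rw [Function.update_self]; exact one_mem _
      · rw [Function.update_of_ne e]; exact hgs l) fun l hl => by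
      by_cases e : l = a
      · subst e; exact Function.update_self _ _ _
      · rw [Function.update_of_ne e]; exact hout l (by simp [e, hl]))

/-- Conjugates keep commuting at a factor. -/
theorem com_conj {j : κ} {R : Mn} (hR : Com j R) (gs : κ → GL β F) :
    Com j (wm 1 (fun l => (gs l : Mb)) * R * wm 1 (fun l => (((gs l)⁻¹ : GL β F) : Mb))) := by
  intro T
  have e : ∀ T : Mb, et j T * wm (1 : Equiv.Perm κ) (fun l => (gs l : Mb)) =
      wm 1 (fun l => (gs l : Mb)) * et j ((((gs j)⁻¹ : GL β F) : Mb) * T * (gs j : Mb)) := fun T => by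
    rw [et, et, wm1_mul, wm1_mul]
    refine wm_congr rfl fun l => ?_
    by_cases e : l = j
    · subst e
      simp only [Pi.mul_apply, Function.update_self, ← mul_assoc, ← Units.val_mul, mul_inv_cancel, Units.val_one,
        one_mul]
    · simp [e]
  have e' : ∀ T : Mb, et j ((((gs j)⁻¹ : GL β F) : Mb) * T * (gs j : Mb)) *
      wm (1 : Equiv.Perm κ) (fun l => (((gs l)⁻¹ : GL β F) : Mb)) =
      wm 1 (fun l => (((gs l)⁻¹ : GL β F) : Mb)) * et j T := fun T => by
    rw [et, et, wm1_mul, wm1_mul]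
    refine wm_congr rfl fun l => ?_
    by_cases e : l = j
    · subst e
      simp only [Pi.mul_apply, Function.update_self, mul_assoc, ← Units.val_mul, mul_inv_cancel, Units.val_one,
        mul_one]
    · simp [e]
  rw [← mul_assoc, ← mul_assoc, e, mul_assoc (wm 1 _) _ R, hR, ← mul_assoc, mul_assoc, e', ← mul_assoc]

variable (h2 : (2 : F) = 0) (hk : 6 ≤ Fintype.card β)
include h2 hk

/-- A member not commuting at a factor gives all matrices at the factor times a member commuting there. -/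
theorem MAlg.step (hP : MAlg h P) {j : κ} {R : Mn} (hR : P R) (hnc : ¬ Com j R) :
    ∃ W : Mn, W ≠ 0 ∧ Com j W ∧ ∀ T : Mb, P (et j T * W) := by
  classical
  have hneg : (-1 : F) = 1 := by linear_combination -h2
  have hAlt : ∃ jl : (β → F) →ₗ[F] (β → F), Alt jl ∧ ∀ u, jl u = fn h u :=
    ⟨{ toFun := fn h, map_add' := fn_add hh.toSesq, map_smul' := fun r a => by rw [hh.fn_smul']; rfl },
      ⟨fun u => by show fn h u ⬝ᵥ u = 0; rw [fn_dot hh.toSesq, hh.self], fn_injective hh.toSesq⟩, fun _ => rfl⟩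
  obtain ⟨jl, hjl, hjle⟩ := hAlt
  have dot : ∀ u v, fn h u ⬝ᵥ v = h v u := fun u v => fn_dot hh.toSesq u v
  -- an orthogonal pair with a contraction
  obtain ⟨v, w, hv0, hvw, hvw0, ha0⟩ : ∃ v w : β → F, v ≠ 0 ∧ (∀ r : F, w ≠ r • v) ∧ h v w = 0 ∧
      yop j w (fn h v) R ≠ 0 := by
    by_contra hc
    push Not at hc
    obtain ⟨b₀⟩ : Nonempty β := Fintype.card_pos_iff.1 (by omega)
    refine hnc ?_
    rw [eq_yop_of_vanish (R := R) (j := j) (fun w φ hwφ => ?_) b₀]
    · exact yop_com _ _ _ _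
    obtain ⟨v, rfl⟩ := fn_surjective hh.toSesq φ
    rw [dot] at hwφ
    rcases eq_or_ne v 0 with rfl | hv
    · rw [fn_zero hh.toSesq]
      have := yop_add_right j w (0 : β → F) 0 R
      rwa [add_zero, left_eq_add] at this
    by_cases hind : ∀ r : F, w ≠ r • v
    · exact hc v w hv hind (hh.refl _ _ hwφ)
    push Not at hind
    obtain ⟨r, hr⟩ := hind
    obtain ⟨d, hvd, -, -, hout, -⟩ := hjl.mid hk v v v
    rw [hjle, dot] at hvd
    have hd : ∀ s : F, d ≠ s • v := fun s e => hout (Submodule.mem_span_pair.2 ⟨s, 0, by rw [e]; simp⟩)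
    have hd' : ∀ s : F, w + d ≠ s • v := fun s e => hd (s - r) (by rw [sub_smul, ← e, hr]; abel)
    have h1 := hc v (w + d) hv hd' (by rw [hh.add_right, hh.refl _ _ hwφ, hh.refl _ _ hvd, add_zero])
    rw [yop_add_left, hc v d hv hd (hh.refl _ _ hvd), add_zero] at h1
    exact h1
  obtain ⟨a, ha⟩ : ∃ a, a = yop j w (fn h v) R := ⟨_, rfl⟩
  obtain ⟨b, hb⟩ : ∃ b, b = yop j v (fn h w) R := ⟨_, rfl⟩
  rw [← ha] at ha0
  -- the double difference
  have hD : ∀ (u : β → F) {R : Mn}, P R → P (et j (vN h u) * R + R * et j (vN h u) +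
      et j (vN h u) * R * et j (vN h u)) := by
    intro u R hR
    obtain ⟨E, hE, e1, e2, -⟩ := hh.exists_tv u 1
    have k := hP.add (hP.conj j E hE hR) (hP.smul (-1) hR)
    rw [e1, e2, one_smul, sub_eq_add_neg, ← neg_one_smul F (vN h u), hneg, one_smul, et_add, et_one, one_smul] at k
    have hRR : R + R = 0 := by rw [← two_smul F R, h2, zero_smul]
    rw [show et (κ := κ) j (vN h u) * R + R * et j (vN h u) + et j (vN h u) * R * et j (vN h u) =
      et j (vN h u) * R + R * et j (vN h u) + et j (vN h u) * R * et j (vN h u) + (R + R) by rw [hRR, add_zero]]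
    convert k using 1
    noncomm_ring
  have hS : P (et j (vecMulVec v (fn h w)) * a + et j (vecMulVec w (fn h v)) * b) := by
    have k := hD v (hD w hR)
    have z : ∀ x y : β → F, h x y = 0 → et (κ := κ) j (vN h x) * et j (vN h y) = 0 := fun x y hxy => by
      rw [et_mul, vN, vN, vmv_mul, dot, hh.refl _ _ hxy, zero_smul, ← zero_smul F (1 : Mb), et_smul, zero_smul]
    have z1 := z v w hvw0
    have z2 := z w v (hh.refl _ _ hvw0)
    rw [ha, hb, et_yop', et_yop']
    convert k using 1
    simp only [mul_add, add_mul, ← mul_assoc, z1, zero_mul, mul_assoc _ (et j (vN h w)) (et j (vN h v)), z2,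
      mul_zero, add_zero, zero_add]
    rfl
  have haC : Com j a := ha ▸ yop_com _ _ _ _
  have hbC : Com j b := hb ▸ yop_com _ _ _ _
  -- moving the pair
  have move : ∀ {a b : Mn}, Com j a → Com j b →
      P (et j (vecMulVec v (fn h w)) * a + et j (vecMulVec w (fn h v)) * b) → ∀ x y : β → F, x ≠ 0 →
      (∀ r : F, y ≠ r • x) → h x y = 0 → P (et j (vecMulVec x (fn h y)) * a + et j (vecMulVec y (fn h x)) * b) := by
    intro a b haC hbC hm x y hx hy hxy
    obtain ⟨B, hB, hBv⟩ := hh.exists_move hv0 hx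
    obtain ⟨B', hB', hB'x, hB'w⟩ := hh.exists_move_fix hx (b := (B : Mb) *ᵥ w) (d := y) (fun r er => hvw r
      (gl_mulVec_injective B (by
        show (B : Mb) *ᵥ w = (B : Mb) *ᵥ (r • v)
        rw [er, Matrix.mulVec_smul, hBv]))) hy (by rw [← hBv, hB, hvw0]) hxy
    have hBB : B' * B ∈ Iso h := mul_mem hB' hB
    have k := hP.conj j _ hBB hm
    have e : ∀ (T : Mb) (W : Mn), Com j W → et j ((B' * B : GL β F) : Mb) * (et j T * W) *
        et j (((B' * B)⁻¹ : GL β F) : Mb) =
          et j (((B' * B : GL β F) : Mb) * T * (((B' * B)⁻¹ : GL β F) : Mb)) * W := fun T W hW => by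
      rw [← mul_assoc, et_mul, mul_assoc, ← hW, ← mul_assoc, et_mul]
    rw [mul_add, add_mul, e _ _ haC, e _ _ hbC, hh.conj_vmv hBB, hh.conj_vmv hBB] at k
    simpa only [Units.val_mul, ← Matrix.mulVec_mulVec, hBv, hB'x, hB'w] using k
  -- a conjugate whose product with the coefficient is not zero
  obtain ⟨gs, hgs, hgne⟩ := exists_between hh ha0 ha0
  obtain ⟨g, hg⟩ : ∃ g, g = Function.update gs j 1 := ⟨_, rfl⟩
  have hgI : ∀ l, g l ∈ Iso h := fun l => by
    rw [hg]
    by_cases e : l = j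
    · subst e; rw [Function.update_self]; exact one_mem _
    · rw [Function.update_of_ne e]; exact hgs l
  obtain ⟨G, hG⟩ : ∃ G, G = wm (1 : Equiv.Perm κ) (fun l => (g l : Mb)) := ⟨_, rfl⟩
  obtain ⟨G', hG'⟩ : ∃ G', G' = wm (1 : Equiv.Perm κ) (fun l => (((g l)⁻¹ : GL β F) : Mb)) := ⟨_, rfl⟩
  have hGj : Com j G := hG ▸ com_wm (by rw [hg, Function.update_self, Units.val_one])
  have hGG : G' * G = 1 := by
    rw [hG, hG', wm1_mul, show ((fun l => (((g l)⁻¹ : GL β F) : Mb)) * fun l => (g l : Mb)) = 1 from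
      funext fun l => by simp [Pi.mul_apply, ← Units.val_mul], wm1_one]
  obtain ⟨a', ha'⟩ : ∃ a', a' = G * a * G' := ⟨_, rfl⟩
  have haa : a * a' ≠ 0 := fun e => hgne (by
    have k : a * G * a = 0 := by
      calc a * G * a = a * (G * a * G') * G := by simp only [mul_assoc, hGG, mul_one]
        _ = 0 := by rw [← ha', e, zero_mul]
    rw [wm_of_et (fun l => (gs l : Mb)) j, show Function.update (fun l => (gs l : Mb)) j 1 = fun l => (g l : Mb) from
      funext fun l => by rw [hg]; by_cases e : l = j <;> simp [e], ← hG, mul_assoc a, mul_assoc G, haC,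
      ← mul_assoc, ← mul_assoc, k, zero_mul])
  have ha'C : Com j a' := by rw [ha', hG, hG']; exact com_conj hh haC g
  -- the pure products
  obtain ⟨b', hb'⟩ : ∃ b', b' = G * b * G' := ⟨_, rfl⟩
  have hb'C : Com j b' := by rw [hb', hG, hG']; exact com_conj hh hbC g
  obtain ⟨x, y, hxw, hxv, hyv, hyw, hyx, hy_out, hxy⟩ : ∃ x y : β → F, h w x = 1 ∧ h x v = 0 ∧ h y v = 0 ∧
      h y w = 0 ∧ h y x = 0 ∧ (∀ r : F, y ≠ r • v) ∧ ∀ r : F, y ≠ r • x := by
    obtain ⟨x, h1, h0⟩ := hjl.pick (u := w) (S := F ∙ v) fun hm => by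
      obtain ⟨r, hr⟩ := Submodule.mem_span_singleton.1 hm
      exact hvw r hr.symm
    have hxv := h0 v (Submodule.mem_span_singleton_self v)
    rw [hjle, dot] at h1 hxv
    obtain ⟨y, e1, e2, e3, o1, o2⟩ := hjl.mid hk v w x
    rw [hjle, dot] at e1 e2 e3
    exact ⟨x, y, by rw [symp_symm' hh h2, h1], hxv, e1, e2, e3,
      fun r e => o1 (Submodule.mem_span_pair.2 ⟨r, 0, by rw [e]; simp⟩),
      fun r e => o2 (Submodule.mem_span_pair.2 ⟨0, r, by rw [e]; simp⟩)⟩
  have hx0 : x ≠ 0 := fun e => by rw [e, hh.toSesq.zero_right] at hxw; exact zero_ne_one hxw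
  have hS' : P (et j (vecMulVec x (fn h y)) * a' + et j (vecMulVec y (fn h x)) * b') := by
    refine move ha'C hb'C ?_ x y hx0 hxy (hh.refl _ _ hyx)
    have k := hP.conj_all hh hS g hgI
    rw [← hG, ← hG'] at k
    convert k using 1
    rw [ha', hb', mul_add, add_mul, ← mul_assoc G, ← mul_assoc G (et j _), ← hGj, ← hGj]
    simp only [mul_assoc]
  obtain ⟨W, hW⟩ : ∃ W, W = a * a' := ⟨_, rfl⟩
  have hWC : Com j W := hW ▸ et_com_com haC ha'C
  have hprod : P (et j (vecMulVec v (fn h y)) * W) := by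
    have k := hP.mul hS hS'
    rw [mul_add, add_mul, add_mul, et_pair haC, et_pair haC, et_pair hbC, et_pair hbC, vmv_mul, vmv_mul,
      vmv_mul, vmv_mul, dot, dot, dot, dot, symp_symm' hh h2 w x, hxw, hxv, hyv, hyw, one_smul] at k
    simp only [zero_smul, et_zero, zero_mul, add_zero, ← hW] at k
    exact k
  -- all orthogonal pairs
  have hflag : ∀ {W : Mn}, Com j W → P (et j (vecMulVec v (fn h y)) * W) → ∀ p s : β → F, p ≠ 0 →
      (∀ r : F, s ≠ r • p) → h p s = 0 → P (et j (vecMulVec p (fn h s)) * W) := by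
    intro W hWC hm p s hp hs hps
    obtain ⟨B, hB, hBv⟩ := hh.exists_move hv0 hp
    obtain ⟨B', hB', hB'p, hB'y⟩ := hh.exists_move_fix hp (b := (B : Mb) *ᵥ y) (d := s) (fun r er => hy_out r
      (gl_mulVec_injective B (by
        show (B : Mb) *ᵥ y = (B : Mb) *ᵥ (r • v)
        rw [er, Matrix.mulVec_smul, hBv]))) hs (by rw [← hBv, hB]; exact hh.refl _ _ hyv) hps
    have hBB : B' * B ∈ Iso h := mul_mem hB' hB
    have k := hP.conj j _ hBB hm
    rw [← mul_assoc, et_mul, mul_assoc, ← hWC, ← mul_assoc, et_mul, hh.conj_vmv hBB] at k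
    simpa only [Units.val_mul, ← Matrix.mulVec_mulVec, hBv, hB'p, hB'y] using k
  obtain ⟨hs, hhs, hne⟩ := exists_between hh (hW ▸ haa : W ≠ 0) (hW ▸ haa : W ≠ 0)
  obtain ⟨H, hH⟩ : ∃ H, H = wm (1 : Equiv.Perm κ) (fun l => ((Function.update hs j 1 l : GL β F) : Mb)) := ⟨_, rfl⟩
  obtain ⟨H', hH'⟩ : ∃ H', H' = wm (1 : Equiv.Perm κ) (fun l => (((Function.update hs j 1 l)⁻¹ : GL β F) : Mb)) :=
    ⟨_, rfl⟩
  have hHH : H' * H = 1 := by
    rw [hH, hH', wm1_mul, show ((fun l => (((Function.update hs j 1 l)⁻¹ : GL β F) : Mb)) *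
      fun l => ((Function.update hs j 1 l : GL β F) : Mb)) = 1 from
      funext fun l => by simp [Pi.mul_apply, ← Units.val_mul], wm1_one]
  have hHj : Com j H := hH ▸ com_wm (by rw [Function.update_self, Units.val_one])
  have hH'W : Com j (H * W * H') := by rw [hH, hH']; exact com_conj hh hWC _
  refine ⟨W * (H * W * H'), fun e => hne ?_, et_com_com hWC hH'W, fun T => ?_⟩
  · have k : W * H * W = 0 := by
      calc W * H * W = W * (H * W * H') * H := by simp only [mul_assoc, hHH, mul_one]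
        _ = 0 := by rw [e, zero_mul]
    rw [wm_of_et (fun l => (hs l : Mb)) j, show Function.update (fun l => (hs l : Mb)) j 1 =
      fun l => ((Function.update hs j 1 l : GL β F) : Mb) from
      funext fun l => by by_cases e : l = j <;> simp [e], ← hH, mul_assoc W, mul_assoc H, hWC,
      ← mul_assoc, ← mul_assoc, k, zero_mul]
  have hHW : ∀ p s : β → F, p ≠ 0 → (∀ r : F, s ≠ r • p) → h p s = 0 →
      P (et j (vecMulVec p (fn h s)) * (H * W * H')) := fun p s hp hs' hps => by
    have k := hP.conj_all hh (hflag hWC hprod p s hp hs' hps) (Function.update hs j 1) fun l => by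
      by_cases e : l = j
      · subst e; rw [Function.update_self]; exact one_mem _
      · rw [Function.update_of_ne e]; exact hhs l
    rw [← hH, ← hH'] at k
    convert k using 1
    rw [← mul_assoc H, ← hHj]
    simp only [mul_assoc]
  have h1 : ∀ v φ : β → F, P (et j (vecMulVec v φ) * (W * (H * W * H'))) := by
    intro p φ
    obtain ⟨q, rfl⟩ := fn_surjective hh.toSesq φ
    have h0 : P (et j (0 : Mb) * (W * (H * W * H'))) := by
      rw [show (0 : Mb) = (0 : F) • (1 : Mb) by rw [zero_smul], et_smul, zero_smul, zero_mul]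
      have := hP.smul (0 : F) hR
      rwa [zero_smul] at this
    rcases eq_or_ne p 0 with rfl | hp
    · rw [show vecMulVec (0 : β → F) (fn h q) = 0 by simp]; exact h0
    rcases eq_or_ne q 0 with rfl | hq
    · rw [fn_zero hh.toSesq, show vecMulVec p (0 : β → F) = 0 by simp]; exact h0
    obtain ⟨s, hps, -, hqs, hs1, hs2⟩ := hjl.mid hk p p q
    rw [hjle, dot] at hps hqs
    obtain ⟨p', e1, e0⟩ := hjl.pick (u := s) (S := F ∙ q) fun hm =>
      hs2 (Submodule.span_mono (by simp) hm)
    have e0' := e0 q (Submodule.mem_span_singleton_self q)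
    rw [hjle, dot] at e1 e0'
    have hp' : ∀ r : F, q ≠ r • p' := fun r e => by
      rcases eq_or_ne r 0 with rfl | hr
      · exact hq (by rw [e, zero_smul])
      · rw [show p' = r⁻¹ • q by rw [e, smul_smul, inv_mul_cancel₀ hr, one_smul], hh.smul_left,
          hh.refl _ _ hqs, mul_zero] at e1
        exact zero_ne_one e1
    have hp'0 : p' ≠ 0 := fun e => by rw [e, hh.toSesq.zero_left] at e1; exact zero_ne_one e1
    have k := hP.mul (hflag hWC hprod p s hp (fun r e => hs1 (Submodule.mem_span_pair.2 ⟨r, 0, by rw [e]; simp⟩))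
      (hh.refl _ _ hps)) (hHW p' q hp'0 hp' e0')
    rwa [et_pair hWC, vmv_mul, dot, e1, one_smul] at k
  conv => arg 1; rw [Matrix.matrix_eq_sum_single T]
  simp only [et_sum, Finset.sum_mul]
  refine Finset.sum_induction _ P (fun _ _ => hP.add) (by
    have := hP.smul (0 : F) hR; rwa [zero_smul] at this) fun p _ => Finset.sum_induction _ P (fun _ _ => hP.add) (by
    have := hP.smul (0 : F) hR; rwa [zero_smul] at this) fun q _ => ?_
  rw [show Matrix.single p q (T p q) = T p q • Matrix.single p q (1 : F) by rw [Matrix.smul_single, smul_eq_mul, mul_one],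
    et_smul, Matrix.smul_mul, single_eq_vmv]
  exact hP.smul _ (h1 _ _)

/-- A non-scalar member gives all matrices at one of the factors where it does not commute. -/
theorem MAlg.exists_slot (hP : MAlg h P) {R₀ : Mn} (hR₀ : P R₀) (hns : ∀ r : F, R₀ ≠ r • (1 : Mn)) :
    ∃ l, ¬ Com l R₀ ∧ ∀ T : Mb, P (et l T) := by
  classical
  obtain ⟨Q, hQd⟩ : ∃ Q : Finset κ → Mn → Prop, ∀ s W, Q s W ↔ ((∀ l ∈ s, Com l W) ∧ (∀ l, Com l R₀ → Com l W) ∧
      ∀ gs : κ → Mb, (∀ l ∉ s, gs l = 1) → P (wm 1 gs * W)) := ⟨_, fun _ _ => Iff.rfl⟩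
  have hone : ∀ s W, Q s W → P W := fun s W hW => by
    have := ((hQd s W).1 hW).2.2 1 fun _ _ => rfl
    rwa [wm1_one, one_mul] at this
  have hQ : ∀ s, MAlg h (Q s) := fun s => by
    refine ⟨fun {R S} hR hS => ?_, fun {R} r hR => ?_, fun {R S} hR hS => ?_, fun {R} j E hE hR => ?_⟩
    · obtain ⟨a1, a2, a3⟩ := (hQd _ _).1 hR
      obtain ⟨b1, b2, b3⟩ := (hQd _ _).1 hS
      exact (hQd _ _).2 ⟨fun l hl => com_add (a1 l hl) (b1 l hl), fun l hl => com_add (a2 l hl) (b2 l hl),
        fun gs hgs => by rw [mul_add]; exact hP.add (a3 gs hgs) (b3 gs hgs)⟩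
    · obtain ⟨a1, a2, a3⟩ := (hQd _ _).1 hR
      exact (hQd _ _).2 ⟨fun l hl => com_smul r (a1 l hl), fun l hl => com_smul r (a2 l hl),
        fun gs hgs => by rw [Matrix.mul_smul]; exact hP.smul r (a3 gs hgs)⟩
    · obtain ⟨a1, a2, a3⟩ := (hQd _ _).1 hR
      obtain ⟨b1, b2, -⟩ := (hQd _ _).1 hS
      exact (hQd _ _).2 ⟨fun l hl => et_com_com (a1 l hl) (b1 l hl), fun l hl => et_com_com (a2 l hl) (b2 l hl),
        fun gs hgs => by rw [← mul_assoc]; exact hP.mul (a3 gs hgs) (hone s S hS)⟩
    · obtain ⟨a1, a2, a3⟩ := (hQd _ _).1 hR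
      have hc : ∀ l, Com l R → Com l (et j (E : Mb) * R * et j ((E⁻¹ : GL β F) : Mb)) := fun l hl => by
        by_cases e : l = j
        · subst e
          rwa [hl, mul_assoc, et_mul, ← Units.val_mul, mul_inv_cancel, Units.val_one, et_one, mul_one]
        · exact (com_closed (Ne.symm e)).right _ ((com_closed (Ne.symm e)).left _ hl)
      refine (hQd _ _).2 ⟨fun l hl => hc l (a1 l hl), fun l hl => hc l (a2 l hl), fun gs hgs => ?_⟩
      by_cases hj : j ∈ s
      · rw [(a1 j hj), mul_assoc R, et_mul, ← Units.val_mul, mul_inv_cancel, Units.val_one, et_one, mul_one]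
        exact a3 gs hgs
      · rw [← mul_assoc, ← mul_assoc, wm_update_ne gs (hgs j hj), mul_assoc (et j _)]
        exact hP.conj j E hE (a3 gs hgs)
  have hstep : ∀ (s : Finset κ) (W : Mn), Q s W → ∀ l, ¬ Com l W → ∃ W', W' ≠ 0 ∧ Q (insert l s) W' := by
    intro s W hW l hl
    obtain ⟨W', hW'0, hW'C, hall⟩ := MAlg.step hh h2 hk (hQ s) hW hl
    have h1 := hall 1
    rw [et_one, one_mul] at h1
    obtain ⟨a1, a2, -⟩ := (hQd _ _).1 h1
    refine ⟨W', hW'0, (hQd _ _).2 ⟨fun m hm => ?_, a2, fun gs hgs => ?_⟩⟩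
    · rcases Finset.mem_insert.1 hm with rfl | hm
      exacts [hW'C, a1 m hm]
    · rw [wm_of_et gs l, mul_assoc]
      refine ((hQd _ _).1 (hall (gs l))).2.2 _ fun m hm => ?_
      by_cases e : m = l
      · subst e; exact Function.update_self _ _ _
      · rw [Function.update_of_ne e]; exact hgs m (by simp [e, hm])
  obtain ⟨j₀, hj₀⟩ : ∃ l, ¬ Com l R₀ := by
    by_contra hc
    push Not at hc
    obtain ⟨r, hr⟩ := scalar_of_com hc
    exact hns r hr
  have h0 : Q ∅ R₀ := (hQd _ _).2 ⟨fun l hl => absurd hl (Finset.notMem_empty l), fun _ h => h, fun gs hgs => by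
    rw [show gs = 1 from funext fun l => hgs l (Finset.notMem_empty l), wm1_one, one_mul]; exact hR₀⟩
  obtain ⟨W₁, hW₁, hQ₁⟩ := hstep ∅ R₀ h0 j₀ hj₀
  haveI : Nonempty {s : Finset κ // j₀ ∈ s ∧ ∃ W, W ≠ 0 ∧ Q s W} :=
    ⟨⟨insert j₀ ∅, Finset.mem_insert_self _ _, W₁, hW₁, hQ₁⟩⟩
  obtain ⟨⟨s, hj₀s, W, hW0, hW⟩, hmax⟩ :=
    Finite.exists_max fun p : {s : Finset κ // j₀ ∈ s ∧ ∃ W, W ≠ 0 ∧ Q s W} => p.1.card
  have hcom : ∀ l, Com l W := fun l => by
    by_contra hl
    obtain ⟨W', hW'0, hW'⟩ := hstep s W hW l hl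
    have hls : l ∉ s := fun hls => hl (((hQd _ _).1 hW).1 l hls)
    have := hmax ⟨insert l s, Finset.mem_insert_of_mem hj₀s, W', hW'0, hW'⟩
    simp only [Finset.card_insert_of_notMem hls] at this
    omega
  obtain ⟨r, hr⟩ := scalar_of_com hcom
  have hr0 : r ≠ 0 := fun e => hW0 (by rw [hr, e, zero_smul])
  refine ⟨j₀, hj₀, fun T => ?_⟩
  have h1 := hP.smul r⁻¹ (((hQd _ _).1 hW).2.2 (Function.update 1 j₀ T) fun l hl => by
    have hne : l ≠ j₀ := fun e => hl (by rw [e]; exact hj₀s)
    rw [Function.update_of_ne hne]; rfl)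
  rwa [hr, Matrix.mul_smul, mul_one, smul_smul, inv_mul_cancel₀ hr0, one_smul] at h1

end Cfsg.Agent.Classical.TensorSympEven
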