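import Cfsg.Agent.Lib.Classical.TensorPowSympEven.Frame
import Cfsg.Agent.Lib.Classical.TensorPowSympEven.Algebra
import Cfsg.Agent.Lib.Classical.TensorPowSymp.Rich

/-!
Characteristic two: a non-scalar coefficient gives all coefficients at every factor.
-/

set_option autoImplicit false
set_option linter.unusedSectionVars false
set_option linter.unusedSimpArgs false

open scoped Kronecker

namespace Cfsg.Agent.Classical.TensorSympEven

open Matrix Module MaxTv TensorPow Overfield
open Cfsg.Agent.Classical.TensorMax hiding Frm symm_zero J_zero isolate mem_span_swap flag_scale moveR moveL moveR' moveL'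
  pCoef_of_inP exists_J scalAt_upMap adj_line fix_perp kron_of_fix
open Cfsg.Agent.Classical.TensorSymp hiding Scal

variable {F : Type*} [Field F] [Fintype F] {κ β : Type} [Fintype κ] [DecidableEq κ] [Fintype β] [DecidableEq β]

local notation "X" => (κ → β)
local notation "V" => ((κ → β) → F)
local notation "Mn" => Matrix (κ → β) (κ → β) F
local notation "Mb" => Matrix β β F

/-- The pair element of two factors. -/
def eM (h : (β → F) → (β → F) → F) (i l : κ) (z y p q : β → F) : Matrix (κ → β) (κ → β) F :=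
  et i (vecMulVec z (fn h y)) * et l (vecMulVec p (fn h q)) +
    et i (vecMulVec y (fn h z)) * et l (vecMulVec q (fn h p))

theorem in_sp {M : Subgroup (GL (κ → β) F)} {i : κ} {L : V →ₗ[F] V}
    {L' : ((Rst i → β) × β → F) →ₗ[F] ((Rst i → β) × β → F)} (hL : ∀ x, spV i (L x) = L' (spV i x)) :
    In (Mi M i) L' ↔ In M L := by
  constructor
  · rintro ⟨_, ⟨g, hg, rfl⟩, hgx⟩
    refine ⟨g, hg, fun t => (spV i).injective ?_⟩
    rw [← sp_mulVec, map_add, hL]
    exact hgx _
  · rintro ⟨g, hg, hgx⟩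
    refine ⟨sp i g, mem_Mi.2 hg, fun t => ?_⟩
    obtain ⟨x, rfl⟩ := (spV i).surjective t
    rw [sp_mulVec, hgx, map_add, hL]

theorem et_mulVec_ptens (j : κ) (T : Mb) (w : κ → β → F) :
    et j T *ᵥ ptens w = ptens (Function.update w j (T *ᵥ w j)) := by
  rw [et, wm_mulVec]
  congr 1
  funext m
  by_cases e : m = j
  · subst e; simp
  · simp [e]

variable {c : F} {h : (β → F) → (β → F) → F} {M : Subgroup (GL (κ → β) F)}

theorem eM_sp (hh : Symp h) {i l : κ} (hl : l ≠ i) (z y p q : β → F) (x : V) :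
    spV i (Matrix.toLin' (eM h i l z y p q) x) =
      (rootMap z (fn h y) (Matrix.toLin' (et (⟨l, hl⟩ : Rst i) (vecMulVec p (fn h q)))) +
        rootMap y (fn h z) (Matrix.toLin' (et (⟨l, hl⟩ : Rst i) (vecMulVec q (fn h p))))) (spV i x) := by
  refine LinearMap.congr_fun (f := (spV i).toLinearMap.comp (Matrix.toLin' (eM h i l z y p q)))
    (g := (rootMap z (fn h y) (Matrix.toLin' (et (⟨l, hl⟩ : Rst i) (vecMulVec p (fn h q)))) +
        rootMap y (fn h z) (Matrix.toLin' (et (⟨l, hl⟩ : Rst i) (vecMulVec q (fn h p))))).comp (spV i).toLinearMap)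
    (ext_ptens fun w => ?_) x
  have key : ∀ a b : β → F, ∀ S : Mb, spV i ((et i (vecMulVec a (fn h b)) * et l S) *ᵥ ptens w) =
      rootMap a (fn h b) (Matrix.toLin' (et (⟨l, hl⟩ : Rst i) S)) (spV i (ptens w)) := fun a b S => by
    rw [← Matrix.mulVec_mulVec, et_mulVec_ptens, et_mulVec_ptens, spV_ptens, spV_ptens, rootMap_apply, slice_tmul,
      map_smul, Matrix.toLin'_apply, et_mulVec_ptens, Function.update_self, Function.update_of_ne (Ne.symm hl),
      Matrix.vecMulVec_mulVec, op_smul_eq_smul, tmul_smul_right, tmul_smul_left]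
    congr 3
    funext j
    by_cases e : j = ⟨l, hl⟩
    · subst e; rw [Function.update_self, Function.update_of_ne hl, Function.update_self]
    · rw [Function.update_of_ne e, Function.update_of_ne j.2, Function.update_of_ne fun e' => e (Subtype.ext e')]
  simp only [LinearMap.comp_apply, LinearEquiv.coe_coe, Matrix.toLin'_apply, eM, Matrix.add_mulVec, map_add,
    LinearMap.add_apply, key]

theorem eM_adj (hT : SData c h) (h2 : (2 : F) = 0) {γ : Type} [Fintype γ] [DecidableEq γ] (l : γ) (p q : β → F)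
    (x x' : (γ → β) → F) :
    tf c h (Matrix.toLin' (et l (vecMulVec p (fn h q))) x) x' =
      tf c h x (Matrix.toLin' (et l (vecMulVec q (fn h p))) x') := by
  classical
  have hs := hT.sesq (κ := γ)
  have hbase : ∀ v w : γ → β → F, tf c h (Matrix.toLin' (et l (vecMulVec p (fn h q))) (ptens v)) (ptens w) =
      tf c h (ptens v) (Matrix.toLin' (et l (vecMulVec q (fn h p))) (ptens w)) := fun v w => by
    rw [Matrix.toLin'_apply, Matrix.toLin'_apply, et_mulVec_ptens, et_mulVec_ptens, hT.tf_ptens, hT.tf_ptens,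
      ← Finset.mul_prod_erase _ _ (Finset.mem_univ l), ← Finset.mul_prod_erase (f := fun m => h (v m)
        (Function.update w l (vecMulVec q (fn h p) *ᵥ w l) m)) _ (Finset.mem_univ l), Function.update_self,
      Function.update_self, Finset.prod_congr rfl fun m hm => by rw [Function.update_of_ne (Finset.ne_of_mem_erase hm)]]
    congr 2
    · simp only [Matrix.vecMulVec_mulVec, op_smul_eq_smul, fn_dot hT.hh.toSesq, hT.hh.smul_left, hT.hh.smul_r]
      rw [symp_symm hT.hh h2 p (w l)]
      ring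
    · exact Finset.prod_congr rfl fun m hm => by rw [Function.update_of_ne (Finset.ne_of_mem_erase hm)]
  have h1 : ∀ (w : γ → β → F) (x : (γ → β) → F), tf c h (Matrix.toLin' (et l (vecMulVec p (fn h q))) x) (ptens w) =
      tf c h x (Matrix.toLin' (et l (vecMulVec q (fn h p))) (ptens w)) := fun w x => by
    have := LinearMap.congr_fun (ext_ptens (L := (hs.lin (ptens w)).comp (Matrix.toLin' (et l (vecMulVec p (fn h q)))))
      (L' := hs.lin (Matrix.toLin' (et l (vecMulVec q (fn h p))) (ptens w))) fun v => by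
        simp only [LinearMap.comp_apply, hs.lin_apply, hbase]) x
    simpa only [LinearMap.comp_apply, hs.lin_apply] using this
  rw [symm_two hT h2 x', symm_two hT h2 (Matrix.toLin' (et l (vecMulVec q (fn h p))) x') x]
  have := LinearMap.congr_fun (ext_ptens (L := hs.lin (Matrix.toLin' (et l (vecMulVec p (fn h q))) x))
    (L' := (hs.lin x).comp (Matrix.toLin' (et l (vecMulVec q (fn h p))))) fun w => by
      simp only [LinearMap.comp_apply, hs.lin_apply]
      rw [symm_two hT h2, h1, symm_two hT h2]) x'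
  simpa only [LinearMap.comp_apply, hs.lin_apply] using this

namespace ECx

variable (hM : ECx c h M)
include hM

/-- The coefficients at a factor as matrices. -/
theorem malg (i : κ) : MAlg h fun R : Matrix (Rst i → β) (Rst i → β) F =>
    PCoef (Mi M i) (fn h) (Matrix.toLin' R) := by
  haveI : Nonempty β := Fintype.card_pos_iff.1 (by have := hM.hk; omega)
  have hJ := hM.frm i
  refine ⟨fun hR hS => by rw [map_add]; exact pCoef_add hJ hR hS,
    fun r hR => by rw [map_smul]; exact pCoef_smul hJ hR r,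
    fun hR hS => by rw [Matrix.toLin'_mul]; exact pCoef_mul hJ hR hS, fun {R} j E hE hR => ?_⟩
  have h1 := pCoef_conj hJ hR (pe j E) (hM.toCx.kA_mem j hE) fun x y => by
    rw [k2_mulVec, Units.val_one, Matrix.one_mulVec]
  rw [← map_inv (TensorPow.pe j) E, ← et_val, ← et_val] at h1
  rwa [Matrix.toLin'_mul, Matrix.toLin'_mul, LinearMap.comp_assoc]

theorem vmv_ne_scalar {z y : β → F} (hz : z ≠ 0) (hy : y ≠ 0) (r : F) : vecMulVec z (fn h y) ≠ r • (1 : Mb) := by
  intro e
  have hh := hM.data.hh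
  obtain ⟨d, hyd, -, -, hout, -⟩ := hM.mid y y y
  have hd0 : d ≠ 0 := fun e' => hout (e' ▸ zero_mem _)
  have h1 := congrArg (fun A : Mb => A *ᵥ d) e
  simp only [Matrix.vecMulVec_mulVec, op_smul_eq_smul, hyd, zero_smul, Matrix.smul_mulVec, Matrix.one_mulVec] at h1
  have hr : r = 0 := (smul_eq_zero.1 h1.symm).resolve_right hd0
  rw [hr, zero_smul] at e
  exact vmv_ne_zero hz (fun e' => hy (fn_injective hh.toSesq (e'.trans (fn_zero hh.toSesq).symm))) e

/-- One factor with all coefficients gives another. -/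
theorem next_slot {i l m : κ} (hl : l ≠ i) (hm : m ≠ i) (hlm : l ≠ m)
    (hall : ∀ T : Mb, PCoef (Mi M i) (fn h) (Matrix.toLin' (et (⟨l, hl⟩ : Rst i) T))) (T : Mb) :
    PCoef (Mi M i) (fn h) (Matrix.toLin' (et (⟨m, hm⟩ : Rst i) T)) := by
  classical
  have hh := hM.data.hh
  haveI : Nonempty β := Fintype.card_pos_iff.1 (by have := hM.hk; omega)
  obtain ⟨b₀⟩ : Nonempty β := inferInstance
  have hz0 : (Pi.single b₀ 1 : β → F) ≠ 0 := by simp
  generalize (Pi.single b₀ 1 : β → F) = z at hz0
  obtain ⟨y, hzy, -, -, hout, -⟩ := hM.mid z z z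
  have hind : y ∉ (F ∙ z) := fun hm' => hout (Submodule.span_mono (by simp) hm')
  have hf : Flag (fn h) z y := ⟨by rw [hM.dot, hh.self], by rw [hM.dot, hh.self], hzy, hind, hz0⟩
  obtain ⟨A', g, hg, hgx⟩ := hall (vecMulVec z (fn h y)) z y hf
  obtain ⟨A, hA⟩ : ∃ A, A = Matrix.toLin' (et (⟨l, hl⟩ : Rst i) (vecMulVec y (fn h z))) := ⟨_, rfl⟩
  have hA' : A' = A := by
    refine LinearMap.ext fun x => (hM.toCx.pr i).eq_of_fA fun x' => ?_
    show tf c h (A' x) x' = tf c h (A x) x'
    rw [symm_two hM.data hM.h2 x', symm_two hM.data hM.h2 x', hM.pair_adj hf hg hgx, hA, eM_adj hM.data hM.h2]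
  subst hA'
  have hin : In M (Matrix.toLin' (eM h i l z y z y)) := (in_sp (eM_sp hh hl z y z y)).1 ⟨g, hg, hA ▸ hgx⟩
  obtain ⟨k, hk, hkx⟩ : ∃ π : Equiv.Perm κ, wgl π (1 : κ → GL β F) ∈ M ∧ π⁻¹ i = m ∧ π⁻¹ l = i := by
    refine ⟨Equiv.swap i l * Equiv.swap l m, ?_, ?_, ?_⟩
    · rw [swap_cyc (Ne.symm hl) hlm hm]
      exact hM.toCx.perm_mem _ _
    · rw [_root_.mul_inv_rev, Equiv.swap_inv, Equiv.swap_inv, Equiv.Perm.mul_apply, Equiv.swap_apply_left,
        Equiv.swap_apply_left]
    · rw [_root_.mul_inv_rev, Equiv.swap_inv, Equiv.swap_inv, Equiv.Perm.mul_apply, Equiv.swap_apply_right,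
        Equiv.swap_apply_of_ne_of_ne (Ne.symm hl) (Ne.symm hm)]
  obtain ⟨hkm, hkl⟩ := hkx
  have hmove : ∀ (j : κ) (S : Mb), (wgl k (1 : κ → GL β F) : Mn) * et j S =
      et (k⁻¹ j) S * (wgl k (1 : κ → GL β F) : Mn) := fun j S => by
    rw [wgl_val, et, et, wm_mul, wm_mul, one_mul, mul_one]
    refine wm_congr rfl fun n => ?_
    simp only [Pi.one_apply, Units.val_one, one_mul, Equiv.Perm.coe_one, id_eq, mul_one]
    by_cases e : k n = j
    · subst e; rw [perm_inv_apply, Function.update_self, Function.update_self]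
    · rw [Function.update_of_ne e, Function.update_of_ne (fun e' => e (by rw [e', perm_apply_inv]))]
      rfl
  have hin' : In M (Matrix.toLin' (eM h i m z y z y)) := by
    convert hin.conj hk using 1
    refine LinearMap.ext fun t => ?_
    obtain ⟨s, rfl⟩ : ∃ s, (wgl k (1 : κ → GL β F) : Mn) *ᵥ s = t := ⟨_, mulVec_inv_cancel _ t⟩
    rw [conjL_apply, inv_mulVec_cancel, Matrix.toLin'_apply, Matrix.toLin'_apply, Matrix.mulVec_mulVec,
      Matrix.mulVec_mulVec]
    congr 1
    have hterm : ∀ S S' : Mb, (wgl k (1 : κ → GL β F) : Mn) * (et i S * et l S') =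
        et i S' * et m S * (wgl k (1 : κ → GL β F) : Mn) := fun S S' => by
      rw [← mul_assoc, hmove, hkm, mul_assoc, hmove, hkl, ← mul_assoc, et_comm hm]
    simp only [eM, mul_add, add_mul, hterm]
  obtain ⟨B, hB⟩ : InP (Mi M i) (fn h) z y (Matrix.toLin' (et (⟨m, hm⟩ : Rst i) (vecMulVec z (fn h y)))) :=
    ⟨_, (in_sp (eM_sp hh hm z y z y)).2 hin'⟩
  obtain ⟨l', hl', hl'T⟩ := MAlg.exists_slot hh hM.h2 hM.hk (hM.malg i) (pCoef_of_inP (hM.frm i) ⟨B, hB⟩ hf)
    fun r e => by
      have hy0 : y ≠ 0 := fun e' => hind (e' ▸ zero_mem _)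
      obtain ⟨d, hyd, -, -, hdo, -⟩ := hM.mid y y y
      have hd0 : d ≠ 0 := fun e' => hdo (e' ▸ zero_mem _)
      obtain ⟨u, hu⟩ : ∃ u, fn h y ⬝ᵥ u = 1 := by
        obtain ⟨u, hu, -⟩ := hM.pick (u := y) (S := ⊥) (fun h' => hy0 ((Submodule.mem_bot F).1 h'))
        exact ⟨u, hu⟩
      have h1 := congrArg (fun A : Matrix (Rst i → β) (Rst i → β) F => A *ᵥ ptens fun _ => d) e
      simp only [et_mulVec_ptens, Matrix.vecMulVec_mulVec, op_smul_eq_smul, hyd, zero_smul, Matrix.smul_mulVec,
        Matrix.one_mulVec] at h1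
      have hr : r = 0 := by
        refine (smul_eq_zero.1 (h1.symm.trans ?_)).resolve_right (ptens_ne_zero fun _ => hd0)
        exact funext fun a => Finset.prod_eq_zero (Finset.mem_univ (⟨m, hm⟩ : Rst i)) (by simp)
      rw [hr, zero_smul] at e
      have h3 := congrArg (fun A : Matrix (Rst i → β) (Rst i → β) F => A *ᵥ ptens fun _ => u) e
      simp only [et_mulVec_ptens, Matrix.zero_mulVec] at h3
      refine ptens_ne_zero (fun j => ?_) h3
      by_cases ej : j = ⟨m, hm⟩
      · subst ej
        rw [Function.update_self, Matrix.vecMulVec_mulVec, op_smul_eq_smul, hu, one_smul]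
        exact hz0
      · rw [Function.update_of_ne ej]
        exact fun e' => one_ne_zero (α := F) (by rw [← hu, e', dotProduct_zero])
  obtain rfl : l' = ⟨m, hm⟩ := by
    by_contra hne
    exact hl' fun S => et_comm hne S _
  exact hl'T T

/-- A non-scalar coefficient gives all coefficients. -/
theorem all_coef {i : κ} (hns : ¬ Scal (Mi M i) (fn h)) (R : Matrix (Rst i → β) (Rst i → β) F) :
    PCoef (Mi M i) (fn h) (Matrix.toLin' R) := by
  classical
  have hJ := hM.frm i
  unfold Scal at hns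
  push Not at hns
  obtain ⟨z, y, A, hf, hA, hA'⟩ := hns
  have h0 : PCoef (Mi M i) (fn h) (Matrix.toLin' (LinearMap.toMatrix' A)) := by
    rw [Matrix.toLin'_toMatrix']; exact pCoef_of_inP hJ hA hf
  obtain ⟨l, -, hl⟩ := MAlg.exists_slot hM.data.hh hM.h2 hM.hk (hM.malg i) h0 fun r e => by
    obtain ⟨x, hx⟩ := hA' r
    refine hx ?_
    rw [← Matrix.toLin'_toMatrix' A, e, map_smul, Matrix.toLin'_one]
    rfl
  have hall : ∀ (j : Rst i) (T : Mb), PCoef (Mi M i) (fn h) (Matrix.toLin' (et j T)) := fun j T => by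
    by_cases e : j = l
    · subst e; exact hl T
    · exact hM.next_slot l.2 j.2 (fun e' => e (Subtype.ext e'.symm)) hl T
  have hP := hM.malg i
  have hwm : ∀ (s : Finset (Rst i)) (gs : Rst i → Mb), (∀ j ∉ s, gs j = 1) →
      PCoef (Mi M i) (fn h) (Matrix.toLin' (wm 1 gs)) := by
    intro s
    induction s using Finset.induction_on with
    | empty =>
      intro gs hgs
      rw [show gs = 1 from funext fun j => hgs j (Finset.notMem_empty j), wm1_one, Matrix.toLin'_one]
      exact pCoef_one hJ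
    | insert a s _ ih =>
      intro gs hgs
      rw [wm_of_et gs a]
      refine hP.mul (ih _ fun j hj => ?_) (hall a _)
      by_cases e : j = a
      · subst e; exact Function.update_self _ _ _
      · rw [Function.update_of_ne e]; exact hgs j (by simp [e, hj])
  have h00 : PCoef (Mi M i) (fn h) (Matrix.toLin' (0 : Matrix (Rst i → β) (Rst i → β) F)) := by
    simpa using hP.smul (0 : F) h0
  rw [Matrix.matrix_eq_sum_single R]
  refine Finset.sum_induction _ (fun S => PCoef (Mi M i) (fn h) (Matrix.toLin' S)) (fun _ _ => hP.add) h00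
    fun a _ => Finset.sum_induction _ (fun S => PCoef (Mi M i) (fn h) (Matrix.toLin' S)) (fun _ _ => hP.add) h00
    fun b _ => ?_
  rw [show Matrix.single a b (R a b) = R a b • Matrix.single a b (1 : F) by rw [Matrix.smul_single, smul_eq_mul, mul_one]]
  refine hP.smul _ ?_
  rw [single_eq_wm]
  exact hwm Finset.univ _ fun j hj => absurd (Finset.mem_univ j) hj

end ECx

end Cfsg.Agent.Classical.TensorSympEven
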