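import Cfsg.Agent.Lib.Classical.MaxTensorFormCoef

/-!
Overgroups of the isometries of the second factor of a tensor product, the first factor of any dimension: the
coefficients of pair elements and the elements fixing a line of tensors.
-/

set_option autoImplicit false
set_option linter.unusedSectionVars false

namespace Cfsg.Agent.Classical.TensorSympEven

open Matrix Module MaxTv Overfield
open scoped Kronecker
open Cfsg.Agent.Classical.TensorMax hiding Frm symm_zero J_zero isolate mem_span_swap flag_scale moveR moveL moveR' moveL'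
  pCoef_of_inP exists_J scalAt_upMap adj_line fix_perp kron_of_fix

variable {F : Type*} [Field F] [Fintype F] {α β : Type} [Fintype α] [DecidableEq α] [Fintype β] [DecidableEq β]

local notation "V" => (α × β → F)
local notation "Mn" => Matrix (α × β) (α × β) F
local notation "Ea" => ((α → F) →ₗ[F] (α → F))

/-- A reflexive form on the second factor, with the root elements of its isometry group in `M`. -/
structure Frm (M : Subgroup (GL (α × β) F)) (J : (β → F) → (β → F)) (σ : F ≃+* F) (ε κ τ : F) : Prop where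
  J_add : ∀ u v, J (u + v) = J u + J v
  J_smul : ∀ (c : F) u, J (c • u) = σ c • J u
  J_inj : ∀ u, J u = 0 → u = 0
  refl : ∀ u v, J v ⬝ᵥ u = ε * σ (J u ⬝ᵥ v)
  eps : ε ≠ 0
  kappa : κ ≠ 0
  pair : ∀ z b, J z ⬝ᵥ z = 0 → J b ⬝ᵥ b = 0 → J z ⬝ᵥ b = 0 →
    In M (rootMap (α := α) z (J b) LinearMap.id + κ • rootMap b (J z) LinearMap.id)
  tau : τ ≠ 0
  root : ∀ z, J z ⬝ᵥ z = 0 → ∃ g ∈ M, IsKron g ∧
    ∀ t, (g : Mn) *ᵥ t = t + rootMap (α := α) (τ • z) (J z) LinearMap.id t
  adj : ∀ f ∈ M, ∀ (y v : β → F) (μ : F),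
    (∀ x, slice (J v) ((f : Mn) *ᵥ tmul x y) = μ • x) →
      ∀ x : α → F, slice (J y) (((f⁻¹ : GL (α × β) F) : Mn) *ᵥ tmul x v) = (ε * σ μ) • x
  line_iso : ∀ f ∈ M, ∀ y z : β → F, J y ⬝ᵥ y = 0 →
    (∀ x : α → F, ∃ x', (f : Mn) *ᵥ tmul x y = tmul x' z) → J z ⬝ᵥ z = 0
  dual : ∀ z y u, J z ⬝ᵥ z = 0 → J y ⬝ᵥ y = 0 → J u ⬝ᵥ u = 0 → J z ⬝ᵥ y = 0 → J u ⬝ᵥ z = 0 → J u ⬝ᵥ y = 0 →
    u ∉ Submodule.span F ({z, y} : Set (β → F)) →
    ∃ c, J c ⬝ᵥ c = 0 ∧ J u ⬝ᵥ c = 1 ∧ J z ⬝ᵥ c = 0 ∧ J y ⬝ᵥ c = 0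
  mid : ∀ z b y : β → F, ∃ d, J d ⬝ᵥ d = 0 ∧ J z ⬝ᵥ d = 0 ∧ J b ⬝ᵥ d = 0 ∧ J y ⬝ᵥ d = 0 ∧
    d ∉ Submodule.span F ({z, b} : Set (β → F)) ∧ d ∉ Submodule.span F ({z, y} : Set (β → F))
  perpSpan : ∀ z, J z ⬝ᵥ z = 0 → ∀ p : Submodule F (β → F),
    (∀ y, J y ⬝ᵥ y = 0 → J z ⬝ᵥ y = 0 → y ∈ p) → ∀ y, J z ⬝ᵥ y = 0 → y ∈ p
  topSpan : ∀ p : Submodule F (β → F), (∀ y, J y ⬝ᵥ y = 0 → y ∈ p) → ∀ y, y ∈ p

variable {M : Subgroup (GL (α × β) F)} {J : (β → F) → (β → F)} {σ : F ≃+* F} {ε κ τ : F}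

section
variable (hJ : Frm M J σ ε κ τ)
include hJ

theorem symm_zero {u v : β → F} (h : J u ⬝ᵥ v = 0) : J v ⬝ᵥ u = 0 := by
  rw [hJ.refl u v, h, map_zero, mul_zero]

theorem J_zero : J 0 = 0 := by
  have := hJ.J_add 0 0
  rwa [add_zero, left_eq_add] at this

theorem flag_swap {z b : β → F} (h : Flag J z b) : Flag J b z where
  zz := h.bb
  bb := h.zz
  zb := symm_zero hJ h.zb
  ind hm := h.ind (by
    obtain ⟨c, hc⟩ := Submodule.mem_span_singleton.1 hm
    have hc0 : c ≠ 0 := fun e => h.z0 (by rw [← hc, e, zero_smul])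
    exact Submodule.mem_span_singleton.2 ⟨c⁻¹, by rw [← hc, smul_smul, inv_mul_cancel₀ hc0, one_smul]⟩)
  z0 := fun e => h.ind (e ▸ zero_mem _)

/-- Two commutators isolate one coefficient. -/
theorem isolate {z : β → F} {T : V →ₗ[F] (α → F)} {Tp : (α → F) →ₗ[F] V} {C : Ea}
    (hTz : ∀ x, T (tmul x z) = 0) (hTp : ∀ x, slice (J z) (Tp x) = 0) (h : In M (upMap J z T Tp C))
    {y : β → F} (hf : Flag J z y) : InP M J z y (κ • T.comp (fac y)) := by
  obtain ⟨d, hdd, hzd, hyd, -, hdind, -⟩ := hJ.mid z y y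
  obtain ⟨e, hee, hde, hze, hye⟩ := hJ.dual z y d hf.zz hf.bb hdd hf.zb (symm_zero hJ hzd) (symm_zero hJ hyd) hdind
  have main : ∀ (T : V →ₗ[F] (α → F)) (Tp : (α → F) →ₗ[F] V) (C : Ea), (∀ x, T (tmul x z) = 0) →
      (∀ x, slice (J z) (Tp x) = 0) → In M (upMap J z T Tp C) →
      ∀ p r : β → F, J p ⬝ᵥ p = 0 → J r ⬝ᵥ r = 0 → J z ⬝ᵥ p = 0 → J z ⬝ᵥ r = 0 → J p ⬝ᵥ r = 0 →
      In M (upMap J z (-(T.comp (rootMap p (J r) LinearMap.id + κ • rootMap r (J p) LinearMap.id)))
        ((rootMap p (J r) LinearMap.id + κ • rootMap r (J p) LinearMap.id).comp Tp)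
        (T.comp ((rootMap p (J r) LinearMap.id + κ • rootMap r (J p) LinearMap.id).comp Tp))) := by
    intro T Tp C hTz hTp h p r hpp hrr hzp hzr hpr
    have hE := hJ.pair p r hpp hrr hpr
    set E := rootMap (α := α) p (J r) LinearMap.id + κ • rootMap r (J p) LinearMap.id with hEd
    have hEz : ∀ x, E (tmul x z) = 0 := fun x => by
      rw [hEd]
      simp only [LinearMap.add_apply, LinearMap.smul_apply, rootMap_apply, slice_tmul, symm_zero hJ hzr,
        symm_zero hJ hzp, zero_smul, map_zero, tmul_zero_left, smul_zero, add_zero]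
    have hzE : ∀ t, slice (J z) (E t) = 0 := fun t => by
      rw [hEd]
      simp only [LinearMap.add_apply, LinearMap.smul_apply, rootMap_apply, map_add, map_smul, slice_tmul, hzp, hzr,
        zero_smul, smul_zero, add_zero]
    have hrp := symm_zero hJ hpr
    have hEE : ∀ t, E (E t) = 0 := fun t => by
      rw [hEd]
      simp only [LinearMap.add_apply, LinearMap.smul_apply, rootMap_apply, map_add, map_smul, slice_tmul, hpr, hrp,
        hpp, hrr, zero_smul, map_zero, tmul_zero_left, smul_zero, add_zero]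
    set X := upMap J z T Tp C with hXd
    have hXap : ∀ t, X t = tmul (T t) z + Tp (slice (J z) t) + tmul (C (slice (J z) t)) z := fun t => rfl
    have hzX : ∀ t, slice (J z) (X t) = 0 := fun t => by
      rw [hXap, map_add, map_add, slice_tmul, slice_tmul, hf.zz, zero_smul, zero_smul, hTp, add_zero, add_zero]
    have hXzero : ∀ t, slice (J z) t = 0 → X t = tmul (T t) z := fun t ht => by
      rw [hXap, ht, map_zero, map_zero, tmul_zero_left, add_zero, add_zero]
    have hXz : ∀ x, X (tmul x z) = 0 := fun x => by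
      rw [hXzero _ (by rw [slice_tmul, hf.zz, zero_smul]), hTz, tmul_zero_left]
    have h2 := In.commCube h hE hEE
      (fun t => by rw [hXzero _ (hzX t), hXz])
      (fun t => by rw [hXzero _ (hzE t), hEz])
      (fun t => by rw [hXzero _ (hzX t), hEz, map_zero])
      (fun t => by rw [hXzero _ (hzX t), hEz])
    convert h2 using 1
    refine LinearMap.ext fun t => ?_
    simp only [LinearMap.add_apply, LinearMap.sub_apply, LinearMap.comp_apply]
    rw [hXzero _ (hzE t), hXzero _ (hzE (X t)), hXap t]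
    simp only [upMap, LinearMap.add_apply, LinearMap.comp_apply, rootMap_apply, fac_apply, LinearMap.neg_apply,
      map_add, hEz, hTz, add_zero, zero_add]
    rw [← fac_apply (-_), map_neg, fac_apply]
    abel
  have hde' : J e ⬝ᵥ d = ε := by rw [hJ.refl d e, hde, map_one, mul_one]
  have h1 := main T Tp C hTz hTp h d y hdd hf.bb hzd hf.zb (symm_zero hJ hyd)
  set E₁ := rootMap (α := α) d (J y) LinearMap.id + κ • rootMap y (J d) LinearMap.id with hE₁
  have hE₁z : ∀ x, E₁ (tmul x z) = 0 := fun x => by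
    rw [hE₁]
    simp only [LinearMap.add_apply, LinearMap.smul_apply, rootMap_apply, slice_tmul, symm_zero hJ hzd,
      symm_zero hJ hf.zb, zero_smul, map_zero, tmul_zero_left, smul_zero, add_zero]
  have h2 := main _ _ _ (fun x => by rw [LinearMap.neg_apply, LinearMap.comp_apply, hE₁z, map_zero, neg_zero])
    (fun x => by
      rw [LinearMap.comp_apply, hE₁]
      simp only [LinearMap.add_apply, LinearMap.smul_apply, rootMap_apply, map_add, map_smul, slice_tmul, hzd, hf.zb,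
        zero_smul, smul_zero, add_zero])
    h1 e y hee hf.bb hze hf.zb (symm_zero hJ hye)
  have hyy := hf.bb
  have hdy := symm_zero hJ hyd
  have hey := symm_zero hJ hye
  have hP : In M (rootMap z (J y) (κ • T.comp (fac y)) +
      rootMap y (J z) ((κ * ε) • (slice (J y)).comp Tp)) := by
    convert h2 using 1
    refine LinearMap.ext fun t => ?_
    simp only [upMap, hE₁, LinearMap.add_apply, LinearMap.comp_apply, LinearMap.smul_apply, LinearMap.neg_apply,
      rootMap_apply, fac_apply, LinearMap.id_apply, map_add, map_neg, map_smul, map_zero, slice_tmul, tmul_add_left,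
      tmul_smul_left, tmul_zero_left, hyd, hdy, hye, hyy, hey, hde, hde', one_smul, mul_zero, zero_smul, smul_zero, add_zero,
      zero_add, neg_zero, neg_neg]
    rw [smul_smul]
  exact ⟨_, hP⟩

theorem inP_add {z b : β → F} {A B : Ea} (hf : Flag J z b) (hA : InP M J z b A) (hB : InP M J z b B) :
    InP M J z b (A + B) := by
  obtain ⟨A', hA⟩ := hA
  obtain ⟨B', hB⟩ := hB
  refine ⟨A' + B', ?_⟩
  have hbz := symm_zero hJ hf.zb
  convert hA.add hB (fun t => ?_) using 1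
  · rw [rootMap_add, rootMap_add]; abel
  · simp only [LinearMap.add_apply, rootMap_apply, map_add, slice_tmul, hf.zz, hf.bb, hf.zb, hbz, zero_smul,
      map_zero, tmul_zero_left, add_zero]

theorem inP_id {z b : β → F} (hz : J z ⬝ᵥ z = 0) (hb : J b ⬝ᵥ b = 0) (h : J z ⬝ᵥ b = 0) :
    InP M J z b (LinearMap.id : Ea) := ⟨κ • LinearMap.id, by rw [← rootMap_smul]; exact hJ.pair z b hz hb h⟩

/-- The product rule. -/
theorem inP_prod {z b c y : β → F} {A B : Ea} (hA : InP M J z b A) (hB : InP M J c y B) (hzz : J z ⬝ᵥ z = 0)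
    (hbb : J b ⬝ᵥ b = 0) (hcc : J c ⬝ᵥ c = 0) (hyy : J y ⬝ᵥ y = 0) (hzb : J z ⬝ᵥ b = 0) (hzc : J z ⬝ᵥ c = 0)
    (hzy : J z ⬝ᵥ y = 0) (hby : J b ⬝ᵥ y = 0) (hcy : J c ⬝ᵥ y = 0) (hbc : J b ⬝ᵥ c = 1) :
    InP M J z y (A.comp B) := by
  obtain ⟨A', hA⟩ := hA
  obtain ⟨B', hB⟩ := hB
  refine ⟨(-ε) • B'.comp A', ?_⟩
  have hcb : J c ⬝ᵥ b = ε := by rw [hJ.refl b c, hbc, map_one, mul_one]
  have hbz := symm_zero hJ hzb
  have hcz := symm_zero hJ hzc
  have hyz := symm_zero hJ hzy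
  have hyb := symm_zero hJ hby
  have hyc := symm_zero hJ hcy
  set P := rootMap z (J b) A + rootMap b (J z) A' with hP
  set Q := rootMap c (J y) B + rootMap y (J c) B' with hQ
  have hPP : ∀ t, P (P t) = 0 := fun t => by
    simp only [hP, LinearMap.add_apply, rootMap_apply, map_add, slice_tmul, hzz, hbb, hzb, hbz, zero_smul,
      map_zero, tmul_zero_left, add_zero]
  have hQQ : ∀ t, Q (Q t) = 0 := fun t => by
    simp only [hQ, LinearMap.add_apply, rootMap_apply, map_add, slice_tmul, hcc, hyy, hcy, hyc, zero_smul,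
      map_zero, tmul_zero_left, add_zero]
  have hPQP : ∀ t, P (Q (P t)) = 0 := fun t => by
    simp only [hP, hQ, LinearMap.add_apply, rootMap_apply, map_add, map_smul, slice_tmul, hzz, hbb, hzb, hbz,
      hyz, hyb, hcz, hcb, hzy, hby, zero_smul, smul_zero, map_zero, tmul_zero_left, add_zero, zero_add,
      tmul_smul_left]
  have hQPQ : ∀ t, Q (P (Q t)) = 0 := fun t => by
    simp only [hP, hQ, LinearMap.add_apply, rootMap_apply, map_add, map_smul, slice_tmul, hcc, hyy, hcy, hyc,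
      hzc, hbc, hzy, hby, hyz, hyb, hcz, one_smul, zero_smul, smul_zero, map_zero, tmul_zero_left, add_zero, zero_add]
  have h := In.commCube hB hA hPP (fun t => by rw [hQQ]) hPQP (fun t => by rw [hQQ, map_zero, map_zero])
    (fun t => by rw [hQQ, map_zero])
  convert h using 1
  refine LinearMap.ext fun t => ?_
  simp only [LinearMap.add_apply, LinearMap.sub_apply, LinearMap.comp_apply, hQPQ, add_zero]
  simp only [hP, hQ, LinearMap.add_apply, LinearMap.smul_apply, LinearMap.comp_apply, rootMap_apply, map_add,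
    map_smul, slice_tmul, hbc, hcb, hby, hzc, hzy, hyz, hyb, hcz, one_smul, zero_smul, map_zero, tmul_zero_left,
    add_zero, zero_add, tmul_smul_left, neg_smul, tmul_neg_left]
  abel

theorem mem_span_swap {z b d : β → F} (hb : b ∉ (F ∙ z)) (h : b ∈ Submodule.span F ({z, d} : Set (β → F))) :
    d ∈ Submodule.span F ({z, b} : Set (β → F)) := by
  obtain ⟨s, r, hsr⟩ := Submodule.mem_span_pair.1 h
  have hr : r ≠ 0 := fun e => hb (by
    rw [← hsr, e, zero_smul, add_zero]; exact Submodule.smul_mem _ _ (Submodule.mem_span_singleton_self z))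
  exact Submodule.mem_span_pair.2 ⟨-(r⁻¹ * s), r⁻¹, by
    rw [← hsr, smul_add, smul_smul, smul_smul, inv_mul_cancel₀ hr, one_smul, neg_smul]; abel⟩

theorem flag_scale {z y : β → F} (hf : Flag J z y) {c : F} (hc : c ≠ 0) : Flag J (c • z) y where
  zz := by rw [hJ.J_smul, smul_dotProduct, dotProduct_smul, hf.zz, smul_zero, smul_zero]
  bb := hf.bb
  zb := by rw [hJ.J_smul, smul_dotProduct, hf.zb, smul_zero]
  ind := by rw [Submodule.span_singleton_smul_eq (IsUnit.mk0 c hc)]; exact hf.ind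
  z0 := smul_ne_zero hc hf.z0

theorem moveR {z b y : β → F} {A : Ea} (h : InP M J z b A) (hb : Flag J z b) (hy : Flag J z y)
    (hby : J b ⬝ᵥ y = 0) (hnot : b ∉ Submodule.span F ({z, y} : Set (β → F))) : InP M J z y A := by
  obtain ⟨c, hcc, hbc, hzc, hyc⟩ := hJ.dual z y b hb.zz hy.bb hb.bb hy.zb (symm_zero hJ hb.zb) hby hnot
  have := inP_prod hJ h (inP_id hJ hcc hy.bb (symm_zero hJ hyc)) hb.zz hb.bb hcc hy.bb hb.zb hzc hy.zb hby
    (symm_zero hJ hyc) hbc
  rwa [LinearMap.comp_id] at this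

theorem moveL {z c y : β → F} {B : Ea} (h : InP M J c y B) (hc : Flag J c y) (hz : Flag J z y)
    (hzc : J z ⬝ᵥ c = 0) (hnot : c ∉ Submodule.span F ({z, y} : Set (β → F))) : InP M J z y B := by
  obtain ⟨b₀, hbb, hcb, hzb, hyb⟩ := hJ.dual z y c hz.zz hz.bb hc.zz hz.zb (symm_zero hJ hzc) hc.zb hnot
  obtain ⟨s, hs⟩ : ∃ s, σ s = ε⁻¹ := σ.surjective _
  have hbc : J (s • b₀) ⬝ᵥ c = 1 := by
    rw [hJ.J_smul, smul_dotProduct, hJ.refl c b₀, hcb, map_one, mul_one, hs, smul_eq_mul, inv_mul_cancel₀ hJ.eps]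
  have hbb' : J (s • b₀) ⬝ᵥ (s • b₀) = 0 := by
    rw [hJ.J_smul, smul_dotProduct, dotProduct_smul, hbb, smul_zero, smul_zero]
  have hzb' : J z ⬝ᵥ (s • b₀) = 0 := by rw [dotProduct_smul, hzb, smul_zero]
  have hyb' : J y ⬝ᵥ (s • b₀) = 0 := by rw [dotProduct_smul, hyb, smul_zero]
  have := inP_prod hJ (inP_id hJ hz.zz hbb' hzb') h hz.zz hbb' hc.zz hz.bb hzb' hzc hz.zb (symm_zero hJ hyb')
    hc.zb hbc
  rwa [LinearMap.id_comp] at this

theorem moveR' {z b y : β → F} {A : Ea} (h : InP M J z b A) (hb : Flag J z b) (hy : Flag J z y) :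
    InP M J z y A := by
  obtain ⟨d, hdd, hzd, hbd, hyd, hd1, hd2⟩ := hJ.mid z b y
  have hfd : Flag J z d := ⟨hb.zz, hdd, hzd, fun h => hd1 (Submodule.span_mono (by simp) h), hb.z0⟩
  exact moveR hJ (moveR hJ h hb hfd hbd fun hm => hd1 (mem_span_swap hJ hb.ind hm)) hfd hy
    (symm_zero hJ hyd) hd2

theorem moveL' {z c y : β → F} {B : Ea} (h : InP M J c y B) (hc : Flag J c y) (hz : Flag J z y) :
    InP M J z y B := by
  obtain ⟨d, hdd, hyd, hcd, hzd, hd1, hd2⟩ := hJ.mid y c z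
  have hfd : Flag J y d := ⟨hc.bb, hdd, hyd, fun h => hd1 (Submodule.span_mono (by simp) h), (flag_swap hJ hc) |>.z0⟩
  rw [Set.pair_comm] at hd2
  refine moveL hJ (moveL hJ h hc ((flag_swap hJ hfd)) (symm_zero hJ hcd) fun hm => hd1 ?_) ((flag_swap hJ hfd)) hz hzd hd2
  rw [Set.pair_comm] at hm
  exact mem_span_swap hJ ((flag_swap hJ hc)).ind hm

theorem pCoef_of_inP {z b : β → F} {A : Ea} (h : InP M J z b A) (hb : Flag J z b) : PCoef M J A := by
  intro z' y' hy'
  obtain ⟨d, hdd, hzd, hz'd, -, hd1, -⟩ := hJ.mid z z' b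
  have h1 : Flag J z d := ⟨hb.zz, hdd, hzd, fun h => hd1 (Submodule.span_mono (by simp) h), hb.z0⟩
  have h2 : Flag J z' d := ⟨hy'.zz, hdd, hz'd, fun h => hd1 (Submodule.span_mono (by simp) h), hy'.z0⟩
  exact moveR' hJ (moveL' hJ (moveR' hJ h hb h1) h1 h2) h2 hy'

theorem pCoef_one : PCoef M J (LinearMap.id : Ea) := fun _ _ h => inP_id hJ h.zz h.bb h.zb

theorem pCoef_add {A B : Ea} (h : PCoef M J A) (h' : PCoef M J B) : PCoef M J (A + B) := fun z y hf =>
  inP_add hJ hf (h z y hf) (h' z y hf)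

theorem pCoef_smul {A : Ea} (h : PCoef M J A) (c : F) : PCoef M J (c • A) := fun z y hf => by
  rcases eq_or_ne c 0 with rfl | hc
  · rw [zero_smul]; exact InP.zero
  obtain ⟨A', hA⟩ := h _ _ (flag_scale hJ hf hc)
  refine ⟨σ c • A', ?_⟩
  rwa [rootMap_smul_left, hJ.J_smul, rootMap_smul_right] at hA

theorem pCoef_sub {A B : Ea} (h : PCoef M J A) (h' : PCoef M J B) : PCoef M J (A - B) := by
  rw [sub_eq_add_neg, ← neg_one_smul F B]
  exact pCoef_add hJ h (pCoef_smul hJ h' _)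

theorem pCoef_mul {A B : Ea} (h : PCoef M J A) (h' : PCoef M J B) : PCoef M J (A.comp B) := fun z y hf => by
  obtain ⟨d, hdd, hzd, hyd, -, hd1, -⟩ := hJ.mid z y y
  have hdy := symm_zero hJ hyd
  obtain ⟨c, hcc, hdc, hzc, hyc⟩ := hJ.dual z y d hf.zz hf.bb hdd hf.zb (symm_zero hJ hzd) hdy hd1
  have h1 : Flag J z d := ⟨hf.zz, hdd, hzd, fun h => hd1 (Submodule.span_mono (by simp) h), hf.z0⟩
  have h2 : Flag J c y := ⟨hcc, hf.bb, symm_zero hJ hyc, fun hm => by
      obtain ⟨k, rfl⟩ := Submodule.mem_span_singleton.1 hm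
      rw [dotProduct_smul, hdc, smul_eq_mul, mul_one] at hdy
      exact hf.ind (by rw [hdy, zero_smul]; exact zero_mem _),
    fun e => by rw [e, dotProduct_zero] at hdc; exact zero_ne_one hdc⟩
  exact inP_prod hJ (h _ _ h1) (h' _ _ h2) hf.zz hdd hcc hf.bb hzd hzc hf.zb hdy (symm_zero hJ hyc) hdc

theorem pCoef_conj [Nonempty α] {D : Ea} (h : PCoef M J D) (A : GL α F) {g : GL (α × β) F} (hg : g ∈ M)
    (hgx : ∀ x y, (g : Mn) *ᵥ tmul x y = tmul ((A : Matrix α α F) *ᵥ x) y) :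
    PCoef M J ((Matrix.toLin' (A : Matrix α α F)).comp
      (D.comp (Matrix.toLin' ((A⁻¹ : GL α F) : Matrix α α F)))) := fun z y hf => by
  obtain ⟨D', hD⟩ := h z y hf
  refine ⟨(Matrix.toLin' (A : Matrix α α F)).comp (D'.comp (Matrix.toLin' ((A⁻¹ : GL α F) : Matrix α α F))), ?_⟩
  have hgi : ∀ φ t, slice φ (((g⁻¹ : GL (α × β) F) : Mn) *ᵥ t) =
      ((A⁻¹ : GL α F) : Matrix α α F) *ᵥ slice φ t := fun φ t => by
    refine LinearMap.congr_fun (f := (slice φ).comp (Matrix.toLin' ((g⁻¹ : GL (α × β) F) : Mn)))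
      (g := (Matrix.toLin' ((A⁻¹ : GL α F) : Matrix α α F)).comp (slice φ)) (ext_tmul' fun x w => ?_) t
    have h1 : ((g⁻¹ : GL (α × β) F) : Mn) *ᵥ tmul x w = tmul (((A⁻¹ : GL α F) : Matrix α α F) *ᵥ x) w :=
      gl_mulVec_injective g (by
        show (g : Mn) *ᵥ _ = (g : Mn) *ᵥ _
        rw [mulVec_inv_cancel, hgx, mulVec_inv_cancel])
    simp only [LinearMap.comp_apply, Matrix.toLin'_apply, h1, slice_tmul, Matrix.mulVec_smul]
  convert hD.conj hg using 1
  refine LinearMap.ext fun t => ?_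
  rw [conjL_apply]
  simp only [LinearMap.add_apply, rootMap_apply, LinearMap.comp_apply, Matrix.toLin'_apply, Matrix.mulVec_add, hgx,
    hgi]

variable [Nonempty α]

theorem exists_J (χ : β → F) : ∃ u, J u = χ := by
  refine Finite.injective_iff_surjective.1 (fun u v h => ?_) χ
  have h1 : J (u + (-1 : F) • v) = 0 := by
    rw [hJ.J_add, hJ.J_smul, map_neg, map_one, h, neg_one_smul, add_neg_cancel]
  have h2 := hJ.J_inj _ h1
  rw [neg_one_smul] at h2
  exact add_neg_eq_zero.1 h2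

/-- Coefficients of an element of the flag group are scalar on all orthogonal vectors. -/
theorem scalAt_upMap (hS : Scal M J) {z : β → F} (hzz : J z ⬝ᵥ z = 0) (hz0 : z ≠ 0) {T : V →ₗ[F] (α → F)}
    {Tp : (α → F) →ₗ[F] V} {C : Ea} (hTz : ∀ x, T (tmul x z) = 0) (hTp : ∀ x, slice (J z) (Tp x) = 0)
    (h : In M (upMap J z T Tp C)) {y : β → F} (hy : J z ⬝ᵥ y = 0) : ScalAt T y := by
  let p : Submodule F (β → F) :=
    { carrier := {y | ScalAt T y}
      add_mem' := fun h h' => h.add h'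
      zero_mem' := ⟨0, fun x => by rw [tmul_zero_right, map_zero, zero_smul]⟩
      smul_mem' := fun c y h => by
        obtain ⟨μ, hμ⟩ := h
        exact ⟨c * μ, fun x => by rw [tmul_smul_right, map_smul, hμ, mul_smul]⟩ }
  refine hJ.perpSpan z hzz p (fun y hyy hzy => ?_) y hy
  by_cases hm : y ∈ (F ∙ z)
  · obtain ⟨c, rfl⟩ := Submodule.mem_span_singleton.1 hm
    exact ⟨0, fun x => by rw [tmul_smul_right, map_smul, hTz, smul_zero, zero_smul]⟩
  · have hf : Flag J z y := ⟨hzz, hyy, hzy, hm, hz0⟩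
    obtain ⟨μ, hμ⟩ := hS z y _ hf (isolate hJ hTz hTp h hf)
    refine ⟨κ⁻¹ * μ, fun x => ?_⟩
    rw [mul_smul, ← hμ, LinearMap.smul_apply, LinearMap.comp_apply, fac_apply, smul_smul,
      inv_mul_cancel₀ hJ.kappa, one_smul]

/-- The adjoint of an exact line. -/
theorem adj_line {f : GL (α × β) F} (hf : f ∈ M) {y y' : β → F}
    (h : ∀ x : α → F, (f : Mn) *ᵥ tmul x y = tmul x y') (t : V) :
    slice (J y) (((f⁻¹ : GL (α × β) F) : Mn) *ᵥ t) = slice (J y') t := by
  refine LinearMap.congr_fun (f := (slice (J y)).comp (Matrix.toLin' ((f⁻¹ : GL (α × β) F) : Mn)))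
    (g := slice (J y')) ?_ t
  refine LinearMap.ext fun t => ?_
  rw [sum_tmul_basis t]
  simp only [map_sum, map_smul, LinearMap.comp_apply, Matrix.toLin'_apply]
  refine Finset.sum_congr rfl fun p _ => ?_
  congr 1
  rw [hJ.adj f hf y _ (J (Pi.single p.2 1) ⬝ᵥ y') (fun x => by rw [h, slice_tmul]) (Pi.single p.1 1), slice_tmul,
    ← hJ.refl]

/-- An element fixing the line of an isotropic vector pointwise, on the orthogonal vectors. -/
theorem fix_perp (hS : Scal M J) {f : GL (α × β) F} (hf : f ∈ M) {z : β → F} (hzz : J z ⬝ᵥ z = 0)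
    (hz0 : z ≠ 0) (hfix : ∀ x : α → F, (f : Mn) *ᵥ tmul x z = tmul x z) {y : β → F} (hy : J z ⬝ᵥ y = 0) :
    ∃ y', J z ⬝ᵥ y' = 0 ∧ ∀ x : α → F, (f : Mn) *ᵥ tmul x y = tmul x y' := by
  classical
  obtain ⟨ψ, hψ⟩ := exists_dual hz0
  obtain ⟨i₀⟩ := ‹Nonempty α›
  set x₀ : α → F := Pi.single i₀ 1
  have hx₀ : x₀ ⬝ᵥ x₀ = 1 := by simp [x₀]
  have hfixi : ∀ x : α → F, ((f⁻¹ : GL (α × β) F) : Mn) *ᵥ tmul x z = tmul x z := fun x => by
    conv_lhs => rw [← hfix x, inv_mulVec_cancel]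
  -- the inverse has scalar slices
  have step : ∀ f : GL (α × β) F, f ∈ M → (∀ x : α → F, (f : Mn) *ᵥ tmul x z = tmul x z) → ∀ u y,
      J z ⬝ᵥ u = 0 → J z ⬝ᵥ y = 0 → ScalAt ((slice (J u)).comp (Matrix.toLin' (f : Mn))) y := by
    intro f hf hfix u y hu hy
    have hfixi : ∀ x : α → F, ((f⁻¹ : GL (α × β) F) : Mn) *ᵥ tmul x z = tmul x z := fun x => by
      conv_lhs => rw [← hfix x, inv_mulVec_cancel]
    have hadj : ∀ t, slice (J z) ((f : Mn) *ᵥ t) = slice (J z) t := fun t => by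
      have := adj_line hJ (inv_mem hf) hfixi t
      rwa [inv_inv] at this
    let p : Submodule F (β → F) :=
      { carrier := {u | ScalAt ((slice (J u)).comp (Matrix.toLin' (f : Mn))) y}
        add_mem' := fun {u v} h h' => by
          obtain ⟨μ, hμ⟩ := h
          obtain ⟨μ', hμ'⟩ := h'
          refine ⟨μ + μ', fun x => ?_⟩
          simp only [LinearMap.comp_apply] at hμ hμ' ⊢
          rw [hJ.J_add, slice_add, hμ, hμ', add_smul]
        zero_mem' := ⟨0, fun x => by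
          rw [LinearMap.comp_apply, J_zero hJ, ← zero_smul F (0 : β → F), slice_smul, zero_smul, zero_smul]⟩
        smul_mem' := fun c u h => by
          obtain ⟨μ, hμ⟩ := h
          refine ⟨σ c * μ, fun x => ?_⟩
          simp only [LinearMap.comp_apply] at hμ ⊢
          rw [hJ.J_smul, slice_smul, hμ, mul_smul] }
    refine hJ.perpSpan z hzz p (fun u huu hzu => ?_) u hu
    by_cases hm : u ∈ (F ∙ z)
    · obtain ⟨c, rfl⟩ := Submodule.mem_span_singleton.1 hm
      exact ⟨0, fun x => by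
        rw [LinearMap.comp_apply, Matrix.toLin'_apply, hJ.J_smul, slice_smul, hadj, slice_tmul, hy, zero_smul,
          smul_zero]⟩
    have huz := symm_zero hJ hzu
    refine scalAt_upMap hJ hS hzz hz0
      (Tp := κ • (Matrix.toLin' ((f⁻¹ : GL (α × β) F) : Mn)).comp (fac u)) (C := 0)
      (fun x => by rw [LinearMap.comp_apply, Matrix.toLin'_apply, hfix, slice_tmul, huz, zero_smul])
      (fun x => by
        rw [LinearMap.smul_apply, map_smul, LinearMap.comp_apply, Matrix.toLin'_apply,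
          show slice (J z) (((f⁻¹ : GL (α × β) F) : Mn) *ᵥ fac u x) = slice (J z) (fac u x) from
            adj_line hJ hf hfix _, fac_apply, slice_tmul, hzu, zero_smul, smul_zero])
      ?_ hy
    convert (hJ.pair z u hzz huu hzu).conj (inv_mem hf) using 1
    refine LinearMap.ext fun t => ?_
    rw [conjL_apply, inv_inv]
    simp only [upMap, LinearMap.add_apply, LinearMap.smul_apply, LinearMap.comp_apply, rootMap_apply, fac_apply,
      Matrix.toLin'_apply, LinearMap.id_apply, LinearMap.zero_apply, tmul_zero_left, add_zero, Matrix.mulVec_add,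
      Matrix.mulVec_smul, hfixi, hadj]
  -- the image of an orthogonal vector modulo the line
  have hdec : ∀ y, J z ⬝ᵥ y = 0 → ∃ (y' : β → F) (S : Ea), J z ⬝ᵥ y' = 0 ∧
      ∀ x, (f : Mn) *ᵥ tmul x y = tmul x y' + tmul (S x) z := by
    intro y hy
    set y' := lslice x₀ ((f : Mn) *ᵥ tmul x₀ y)
    have hy' : ∀ u, J z ⬝ᵥ u = 0 → ∀ x, slice (J u) ((f : Mn) *ᵥ tmul x y) = (J u ⬝ᵥ y') • x := by
      intro u hu x
      obtain ⟨μ, hμ⟩ := step f hf hfix u y hu hy
      simp only [LinearMap.comp_apply, Matrix.toLin'_apply] at hμ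
      have : J u ⬝ᵥ y' = μ := by rw [dot_lslice, hμ, dotProduct_smul, hx₀, smul_eq_mul, mul_one]
      rw [hμ, this]
    have hzy' : J z ⬝ᵥ y' = 0 := by
      have h1 := adj_line hJ (inv_mem hf) hfixi (tmul x₀ y)
      rw [inv_inv, slice_tmul, hy, zero_smul] at h1
      rw [dot_lslice, h1, dotProduct_zero]
    refine ⟨y', (slice ψ).comp ((Matrix.toLin' (f : Mn)).comp (fac y) - fac y'), hzy', fun x => ?_⟩
    have := eq_tmul_of_slices hψ (t := (f : Mn) *ᵥ tmul x y - tmul x y') fun φ hφ => by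
      obtain ⟨u, rfl⟩ := exists_J hJ φ
      rw [map_sub, hy' u (symm_zero hJ hφ), slice_tmul, sub_self]
    simp only [LinearMap.comp_apply, LinearMap.sub_apply, Matrix.toLin'_apply, fac_apply]
    rw [← this, add_sub_cancel]
  let p : Submodule F (β → F) :=
    { carrier := {y | ∃ y', ∀ x : α → F, (f : Mn) *ᵥ tmul x y = tmul x y'}
      add_mem' := fun {a b} ha hb => by
        obtain ⟨a', ha⟩ := ha
        obtain ⟨b', hb⟩ := hb
        exact ⟨a' + b', fun x => by rw [tmul_add_right, Matrix.mulVec_add, ha, hb, tmul_add_right]⟩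
      zero_mem' := ⟨0, fun x => by rw [tmul_zero_right, Matrix.mulVec_zero]⟩
      smul_mem' := fun c a ha => by
        obtain ⟨a', ha⟩ := ha
        exact ⟨c • a', fun x => by rw [tmul_smul_right, Matrix.mulVec_smul, ha, tmul_smul_right]⟩ }
  have hp : y ∈ p := by
    refine hJ.perpSpan z hzz p (fun y hyy hzy => ?_) y hy
    by_cases hm : y ∈ (F ∙ z)
    · obtain ⟨c, rfl⟩ := Submodule.mem_span_singleton.1 hm
      exact ⟨c • z, fun x => by rw [tmul_smul_right, Matrix.mulVec_smul, hfix]⟩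
    obtain ⟨y', S, hzy', hS'⟩ := hdec y hzy
    have hyz := symm_zero hJ hzy
    have hy'z := symm_zero hJ hzy'
    have hyi : ∀ t, J z ⬝ᵥ t = 0 → ∀ x, slice (J y) (((f⁻¹ : GL (α × β) F) : Mn) *ᵥ tmul x t) =
        (J y' ⬝ᵥ t) • x := fun t ht x => by
      rw [hJ.adj f hf y t (J t ⬝ᵥ y') (fun x => by
        rw [hS', map_add, slice_tmul, slice_tmul, symm_zero hJ ht, zero_smul, add_zero]) x, ← hJ.refl]
    have hy'y' : J y' ⬝ᵥ y' = 0 := by
      have h1 := hyi y' hzy' x₀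
      have h2 : ((f⁻¹ : GL (α × β) F) : Mn) *ᵥ tmul x₀ y' = tmul x₀ y - tmul (S x₀) z :=
        gl_mulVec_injective f (by
          show (f : Mn) *ᵥ _ = (f : Mn) *ᵥ _
          rw [mulVec_inv_cancel, Matrix.mulVec_sub, hS', hfix, add_sub_cancel_right])
      rw [h2, map_sub, slice_tmul, slice_tmul, hyy, hyz, zero_smul, zero_smul, sub_zero, eq_comm,
        smul_eq_zero] at h1
      exact h1.resolve_right (by simp [x₀])
    have hy'm : y' ∉ (F ∙ z) := fun hm' => by
      obtain ⟨d, rfl⟩ := Submodule.mem_span_singleton.1 hm'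
      obtain ⟨χ, hχ, hχ0⟩ := exists_dot_one hm
      have h3 : tmul x₀ y = tmul (d • x₀ + S x₀) z := gl_mulVec_injective f (by
        show (f : Mn) *ᵥ _ = (f : Mn) *ᵥ _
        rw [hS', hfix, tmul_add_left, tmul_smul_left, tmul_smul_right])
      have h4 := congrArg (slice χ) h3
      rw [slice_tmul, slice_tmul, hχ, hχ0 z (Submodule.mem_span_singleton_self z), one_smul, zero_smul] at h4
      simpa [x₀] using congrFun h4 i₀
    obtain ⟨v₀, hv₀⟩ := exists_dual (fun e => hz0 (hJ.J_inj z e))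
    rw [dotProduct_comm] at hv₀
    set D : V →ₗ[F] (α → F) :=
      (slice (J y)).comp (Matrix.toLin' ((f⁻¹ : GL (α × β) F) : Mn)) - slice (J y') with hD
    set S' : Ea := D.comp (fac v₀) with hS'd
    have hDS : ∀ t, slice (J y) (((f⁻¹ : GL (α × β) F) : Mn) *ᵥ t) =
        slice (J y') t + S' (slice (J z) t) := fun t => by
      have h1 : D = S'.comp (slice (J z)) := ext_tmul' fun x w => by
        have hw : J z ⬝ᵥ (w - (J z ⬝ᵥ w) • v₀) = 0 := by
          rw [dotProduct_sub, dotProduct_smul, hv₀, smul_eq_mul, mul_one, sub_self]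
        have h0 : D (tmul x (w - (J z ⬝ᵥ w) • v₀)) = 0 := by
          rw [hD, LinearMap.sub_apply, LinearMap.comp_apply, Matrix.toLin'_apply, hyi _ hw, slice_tmul, sub_self]
        rw [LinearMap.comp_apply, slice_tmul, map_smul, hS'd, LinearMap.comp_apply, fac_apply, ← map_smul,
          ← tmul_smul_right]
        rw [tmul_sub_right, map_sub, sub_eq_zero] at h0
        exact h0
      have h2 := LinearMap.congr_fun h1 t
      rw [hD, LinearMap.sub_apply, LinearMap.comp_apply, Matrix.toLin'_apply, LinearMap.comp_apply,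
        sub_eq_iff_eq_add'] at h2
      exact h2
    obtain ⟨g₁, hg₁, -, hg₁x⟩ := hJ.root y hyy
    obtain ⟨g₂, hg₂, -, hg₂x⟩ := hJ.root y' hy'y'
    have hX := ((show In M (rootMap (τ • y) (J y) LinearMap.id) from ⟨g₁, hg₁, hg₁x⟩).conj hf).sub
      (show In M (rootMap (τ • y') (J y') LinearMap.id) from ⟨g₂, hg₂, hg₂x⟩)
      (fun t => by
        simp only [conjL_apply, rootMap_apply, hDS, LinearMap.id_apply, tmul_smul_right, ← tmul_smul_left,
          slice_tmul, hy'y', hzy', zero_smul, map_zero, add_zero, tmul_zero_left, smul_zero, Matrix.mulVec_zero])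
      (fun t => by
        simp only [rootMap_apply, LinearMap.id_apply, tmul_smul_right, ← tmul_smul_left, slice_tmul, hy'y',
          zero_smul, smul_zero, tmul_zero_left])
    have hne : y' ∉ Submodule.span F ({z, z} : Set (β → F)) := by simpa using hy'm
    obtain ⟨c, -, hyc, hzc, -⟩ := hJ.dual z z y' hzz hzz hy'y' hzz hy'z hy'z hne
    obtain ⟨μ, hμ⟩ := scalAt_upMap hJ hS hzz hz0 (T := (τ • S).comp (slice (J y'))) (Tp := (fac y').comp (τ • S'))
      (C := (τ • S).comp S') (fun x => by rw [LinearMap.comp_apply, slice_tmul, hy'z, zero_smul, map_zero])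
      (fun x => by rw [LinearMap.comp_apply, fac_apply, slice_tmul, hzy', zero_smul])
      (by
        convert hX using 1
        refine LinearMap.ext fun t => ?_
        simp only [upMap, LinearMap.add_apply, LinearMap.sub_apply, LinearMap.smul_apply, LinearMap.comp_apply,
          conjL_apply, rootMap_apply, fac_apply, hDS, LinearMap.id_apply, tmul_add_left, Matrix.mulVec_add, map_add,
          tmul_smul_right, tmul_smul_left, Matrix.mulVec_smul, hS', smul_add]
        abel) hzc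
    refine ⟨y' + (τ⁻¹ * μ) • z, fun x => ?_⟩
    have h5 := hμ x
    rw [LinearMap.comp_apply, slice_tmul, hyc, one_smul, LinearMap.smul_apply] at h5
    rw [hS', tmul_add_right, tmul_smul_right, ← tmul_smul_left (τ⁻¹ * μ), mul_smul, ← h5, smul_smul,
      inv_mul_cancel₀ hJ.tau, one_smul]
  obtain ⟨y', hy'⟩ := hp
  refine ⟨y', ?_, hy'⟩
  have h1 := adj_line hJ (inv_mem hf) hfixi (tmul x₀ y)
  rw [inv_inv, hy', slice_tmul, slice_tmul, hy, zero_smul, smul_eq_zero] at h1
  exact h1.resolve_right (by simp [x₀])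

/-- An element fixing the line of an isotropic vector pointwise has product shape. -/
theorem kron_of_fix [Nonempty β] (hS : Scal M J) {f : GL (α × β) F} (hf : f ∈ M) {z : β → F}
    (hzz : J z ⬝ᵥ z = 0) (hz0 : z ≠ 0) (hfix : ∀ x : α → F, (f : Mn) *ᵥ tmul x z = tmul x z) : IsKron f := by
  classical
  let p : Submodule F (β → F) :=
    { carrier := {y | ∃ y', ∀ x : α → F, (f : Mn) *ᵥ tmul x y = tmul x y'}
      add_mem' := fun {a b} ha hb => by
        obtain ⟨a', ha⟩ := ha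
        obtain ⟨b', hb⟩ := hb
        exact ⟨a' + b', fun x => by rw [tmul_add_right, Matrix.mulVec_add, ha, hb, tmul_add_right]⟩
      zero_mem' := ⟨0, fun x => by rw [tmul_zero_right, Matrix.mulVec_zero]⟩
      smul_mem' := fun c a ha => by
        obtain ⟨a', ha⟩ := ha
        exact ⟨c • a', fun x => by rw [tmul_smul_right, Matrix.mulVec_smul, ha, tmul_smul_right]⟩ }
  refine isKron_of_lines fun y _ => ?_
  suffices hy : y ∈ p by
    obtain ⟨y', hy'⟩ := hy
    exact ⟨y', fun x => ⟨x, hy' x⟩⟩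
  refine hJ.topSpan p (fun v hvv => ?_) y
  by_cases hzv : J z ⬝ᵥ v = 0
  · obtain ⟨v', -, hv'⟩ := fix_perp hJ hS hf hzz hz0 hfix hzv
    exact ⟨v', hv'⟩
  obtain ⟨w, hww, hzw, hvw, -, hwm, -⟩ := hJ.mid z v v
  obtain ⟨w', hzw', hw'⟩ := fix_perp hJ hS hf hzz hz0 hfix hzw
  have hw0 : w ≠ 0 := fun e => hwm (e ▸ zero_mem _)
  obtain ⟨i₀⟩ := ‹Nonempty α›
  have hw'0 : w' ≠ 0 := IsLine.target_ne hw0 fun x => ⟨x, hw' x⟩
  obtain ⟨R, hR, -, hRx⟩ := hJ.root v hvv
  have hw'w' : J w' ⬝ᵥ w' = 0 := hJ.line_iso f hf w w' hww fun x => ⟨x, hw' x⟩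
  have hf2 : f * R * f⁻¹ ∈ M := mul_mem (mul_mem hf hR) (inv_mem hf)
  have hfix2 : ∀ x : α → F, ((f * R * f⁻¹ : GL (α × β) F) : Mn) *ᵥ tmul x w' = tmul x w' := fun x => by
    rw [Units.val_mul, Units.val_mul, ← Matrix.mulVec_mulVec, ← Matrix.mulVec_mulVec, ← hw', inv_mulVec_cancel,
      hRx, rootMap_apply, slice_tmul, hvw, zero_smul, map_zero, tmul_zero_left, add_zero]
  obtain ⟨z', -, hz'⟩ := fix_perp hJ hS hf2 hw'w' hw'0 hfix2 (symm_zero hJ hzw')
  have hvz : J v ⬝ᵥ z ≠ 0 := fun e => hzv (symm_zero hJ e)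
  refine ⟨(τ * (J v ⬝ᵥ z))⁻¹ • (z' - z), fun x => ?_⟩
  have hfixi : ((f⁻¹ : GL (α × β) F) : Mn) *ᵥ tmul x z = tmul x z := by
    conv_lhs => rw [← hfix x, inv_mulVec_cancel]
  have h1 := hz' x
  rw [Units.val_mul, Units.val_mul, ← Matrix.mulVec_mulVec, ← Matrix.mulVec_mulVec, hfixi, hRx, Matrix.mulVec_add,
    hfix, rootMap_apply, slice_tmul, LinearMap.id_apply, tmul_smul_right, tmul_smul_left, smul_smul,
    Matrix.mulVec_smul, ← eq_sub_iff_add_eq', ← tmul_sub_right] at h1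
  rw [tmul_smul_right, ← h1, smul_smul, inv_mul_cancel₀ (mul_ne_zero hJ.tau hvz), one_smul]


end

end Cfsg.Agent.Classical.TensorSympEven
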