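import Cfsg.Agent.Lib.Classical.TensorPowSympEven.Core
import Cfsg.Agent.Lib.Classical.TensorPowSymp.App
import Cfsg.Agent.Lib.Classical.MaxTensorSymp
import Cfsg.Agent.Lib.Classical.QuadBasic

/-!
Characteristic two: the overgroup seen at a factor, the quadratic form and the Siegel elements at pure tensors.
-/

set_option autoImplicit false
set_option linter.unusedSectionVars false
set_option linter.unusedSimpArgs false

open scoped Kronecker

namespace Cfsg.Agent.Classical.TensorSympEven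

open Matrix Module MaxTv TensorPow Overfield OrthAut
open Cfsg.Agent.Classical.TensorMax hiding Frm symm_zero J_zero isolate mem_span_swap flag_scale moveR moveL moveR' moveL'
  pCoef_of_inP exists_J scalAt_upMap adj_line fix_perp kron_of_fix Scal
open Cfsg.Agent.Classical.TensorSymp hiding Scal

variable {F : Type*} [Field F] [Fintype F] {κ β : Type} [Fintype κ] [DecidableEq κ] [Fintype β] [DecidableEq β]

local notation "X" => (κ → β)
local notation "V" => ((κ → β) → F)
local notation "Mn" => Matrix (κ → β) (κ → β) F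
local notation "Mb" => Matrix β β F

theorem add_self_two (h2 : (2 : F) = 0) {W : Type*} [AddCommGroup W] [Module F W] (v : W) : v + v = 0 := by
  rw [← two_smul F v, h2, zero_smul]

theorem eq_of_add_two (h2 : (2 : F) = 0) {W : Type*} [AddCommGroup W] [Module F W] {v w : W} (e : v + w = 0) :
    v = w := by
  rw [← add_zero v, ← add_self_two h2 w, ← add_assoc, e, zero_add]

theorem neg_one_two (h2 : (2 : F) = 0) : (-1 : F) = 1 := by linear_combination -h2

theorem symm_two {γ : Type} [Fintype γ] [DecidableEq γ] {c : F} {h : (β → F) → (β → F) → F} (hT : SData c h)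
    (h2 : (2 : F) = 0) (x y : (γ → β) → F) : tf c h y x = tf c h x y := by
  rw [hT.tf_symm, neg_one_two h2, one_pow, one_mul]

theorem symp_symm {h : (β → F) → (β → F) → F} (hh : Symp h) (h2 : (2 : F) = 0) (u v : β → F) : h v u = h u v := by
  rw [hh.skew]; linear_combination -(h u v) * h2

/-- The form as a linear map. -/
noncomputable def jL {h : (β → F) → (β → F) → F} (hh : Symp h) : (β → F) →ₗ[F] (β → F) where
  toFun := fn h
  map_add' := fn_add hh.toSesq
  map_smul' r a := by rw [hh.fn_smul']; rfl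

theorem jL_alt {h : (β → F) → (β → F) → F} (hh : Symp h) : Alt (jL hh) where
  self u := by show fn h u ⬝ᵥ u = 0; rw [fn_dot hh.toSesq, hh.self]
  inj := fn_injective hh.toSesq

/-- An overgroup in characteristic two with factors of dimension at least six. -/
structure ECx (c : F) (h : (β → F) → (β → F) → F) (M : Subgroup (GL (κ → β) F)) : Prop extends Cx c h M where
  h2 : (2 : F) = 0
  hk : 6 ≤ Fintype.card β

variable {c : F} {h : (β → F) → (β → F) → F} {M : Subgroup (GL (κ → β) F)}

theorem _root_.Cfsg.Agent.Classical.TensorSymp.SData.qc_ptens (hT : SData c h) (h2 : (2 : F) = 0) (ht : 2 ≤ Fintype.card κ) (xs : κ → β → F) :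
    qc c h (ptens xs) = 0 := by
  obtain ⟨i⟩ : Nonempty κ := Fintype.card_pos_iff.1 (by omega)
  haveI := nonempty_rst ht i
  rw [← LinearEquiv.symm_apply_apply (spV i) (ptens xs), spV_ptens, hT.qc_pure h2]

/-- The quadratic form. -/
noncomputable def q2 [Nonempty κ] (hT : SData c h) (h2 : (2 : F) = 0) : QuadraticForm F ((κ → β) → F) :=
  QuadraticMap.ofPolar (qc c h) (fun a x => by rw [hT.qc_smul, smul_eq_mul])
    (fun x x' y => by
      simp only [QuadraticMap.polar, hT.qc_add h2, hT.sesq.add_left]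
      ring)
    (fun a x y => by
      simp only [QuadraticMap.polar, hT.qc_add h2, hT.sesq.smul_left, smul_eq_mul]
      ring)

theorem q2_coe [Nonempty κ] (hT : SData c h) (h2 : (2 : F) = 0) : ⇑(q2 (κ := κ) hT h2) = qc c h := rfl

theorem q2_polar [Nonempty κ] (hT : SData c h) (h2 : (2 : F) = 0) (x y : V) :
    QuadraticMap.polar ⇑(q2 hT h2) x y = tf c h x y := by
  rw [q2_coe, QuadraticMap.polar, hT.qc_add h2]; ring

theorem q2_nd [Nonempty κ] (hT : SData c h) (h2 : (2 : F) = 0) :
    (QuadraticMap.polarBilin (q2 (κ := κ) hT h2)).Nondegenerate :=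
  ⟨fun u hu => hT.sesq.eq_zero u fun v => hT.sesq.refl _ _ (by
      rw [← q2_polar hT h2]; exact hu v),
    fun u hu => hT.sesq.eq_zero u fun v => by rw [← q2_polar hT h2]; exact hu v⟩

theorem q2_tri [Nonempty κ] (hT : SData c h) (h2 : (2 : F) = 0) (h7 : 7 ≤ Fintype.card X) :
    Tri (q2 (κ := κ) hT h2) := by
  refine MaxTv.tri_of_ndQ (q2_nd hT h2) (W := ⊤) (fun w _ hw => ?_) (by rw [finrank_top, finrank_pi]; exact h7)
  by_contra hcon
  push Not at hcon
  exact hw ((q2_nd hT h2).1 w fun x => hcon x Submodule.mem_top)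

theorem card_seven (hk : 6 ≤ Fintype.card β) (ht : 2 ≤ Fintype.card κ) : 7 ≤ Fintype.card X := by
  rw [Fintype.card_fun]
  calc 7 ≤ 6 ^ 2 := by norm_num
    _ ≤ Fintype.card β ^ 2 := Nat.pow_le_pow_left hk 2
    _ ≤ _ := Nat.pow_le_pow_right (by omega) ht

/-- The derived group is the commutator subgroup of the isometries of the quadratic form. -/
theorem GT_eq_omega [Nonempty κ] (hT : SData c h) (h2 : (2 : F) = 0) :
    GT (κ := κ) c h = Geo.omegaGL (qc c h : V → F) := by
  have hmap : KT (κ := κ) c h = isometryGroup F (qc c h : V → F) := by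
    ext g
    rw [mem_isometryGroup]
    refine ⟨fun hg => hg.2 h2, fun hg => ⟨fun x y => ?_, fun _ => hg⟩⟩
    have h1 := hg (x + y)
    rw [Matrix.mulVec_add, hT.qc_add h2, hT.qc_add h2, hg, hg] at h1
    exact add_left_cancel h1
  rw [Geo.omegaGL, show Omega F (qc c h : V → F) = commutator _ from rfl, commutator_def, Subgroup.map_commutator,
    ← MonoidHom.range_eq_map, Subgroup.range_subtype, GT, hmap]

/-- Siegel elements lie in the derived group. -/
theorem siegel [Nonempty κ] (hT : SData c h) (h2 : (2 : F) = 0) (h7 : 7 ≤ Fintype.card X) {a b : V}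
    (ha : qc c h a = 0) (hab : tf c h a b = 0) :
    ∃ g ∈ GT (κ := κ) c h, (g : Mn) = eMat (q2 hT h2) a b := by
  have hok : OK (q2 hT h2) a b := ⟨ha, by rw [q2_polar]; exact hab⟩
  refine ⟨_, ?_, eOG_val hok⟩
  rw [GT_eq_omega hT h2]
  exact Subgroup.mem_map_of_mem _ (sR_le_omega (q2_nd hT h2) (q2_tri hT h2 h7)
    (eOG_mem (q2_nd hT h2) (q2_tri hT h2 h7) hok))

/-- Siegel elements at pure tensors, as sums of products. -/
theorem siegel_ptens (hT : SData c h) (h2 : (2 : F) = 0) (hk : 6 ≤ Fintype.card β) (ht : 2 ≤ Fintype.card κ)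
    (xs ys : κ → β → F) {j : κ} (hj : h (xs j) (ys j) = 0) :
    ∃ g ∈ GT (κ := κ) c h, (g : Mn) = 1 + c • wm 1 (fun l => vecMulVec (ys l) (fn h (xs l))) +
      c • wm 1 (fun l => vecMulVec (xs l) (fn h (ys l))) := by
  haveI : Nonempty κ := ⟨j⟩
  obtain ⟨g, hg, hgm⟩ := siegel hT h2 (card_seven hk ht) (a := ptens xs) (b := ptens ys) (hT.qc_ptens h2 ht _)
    (by rw [hT.tf_ptens, Finset.prod_eq_zero (Finset.mem_univ j) hj, mul_zero])
  refine ⟨g, hg, Matrix.toLin'.injective (ext_ptens fun w => ?_)⟩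
  rw [Matrix.toLin'_apply, Matrix.toLin'_apply, hgm, eMat_mulVec, q2_polar, q2_polar, q2_coe,
    hT.qc_ptens h2 ht, zero_mul, zero_smul, sub_zero, hT.tf_ptens, hT.tf_ptens, Matrix.add_mulVec,
    Matrix.add_mulVec, Matrix.one_mulVec, Matrix.smul_mulVec, Matrix.smul_mulVec, wm_mulVec, wm_mulVec,
    sub_eq_add_neg, ← neg_one_smul F, neg_one_two h2, one_smul]
  have e : ∀ a b : κ → β → F, (ptens fun l => vecMulVec (b l) (fn h (a l)) *ᵥ w ((1 : Equiv.Perm κ) l)) =
      (∏ l, h (a l) (w l)) • ptens b := fun a b => funext fun p => by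
    simp only [ptens, Matrix.vecMulVec_mulVec, op_smul_eq_smul, Equiv.Perm.coe_one, id_eq, fn_dot hT.hh.toSesq,
      symp_symm hT.hh h2 (a _) (w _), Pi.smul_apply, smul_eq_mul, Finset.prod_mul_distrib]
  rw [e, e, smul_smul, smul_smul]

namespace ECx

variable (hM : ECx c h M)
include hM

theorem five : 5 ≤ Fintype.card β := by have := hM.hk; omega

theorem nonempty : Nonempty κ := Fintype.card_pos_iff.1 (by have := hM.ht; omega)

/-- The pair elements are isometries of the quadratic form. -/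
theorem inf_KT : ECx c h (M ⊓ KT c h) where
  data := hM.data
  le := inf_le_left.trans hM.le
  mem := le_inf hM.mem (inf_le_right.trans GT_le_KT)
  hb := hM.hb
  ht := hM.ht
  big := hM.big
  h2 := hM.h2
  hk := hM.hk

theorem pick {u : β → F} {S : Submodule F (β → F)} (hu : u ∉ S) :
    ∃ w, fn h u ⬝ᵥ w = 1 ∧ ∀ s ∈ S, fn h s ⬝ᵥ w = 0 :=
  (jL_alt hM.data.hh).pick hu

theorem mid (z b y : β → F) : ∃ d, fn h z ⬝ᵥ d = 0 ∧ fn h b ⬝ᵥ d = 0 ∧ fn h y ⬝ᵥ d = 0 ∧
    d ∉ Submodule.span F ({z, b} : Set (β → F)) ∧ d ∉ Submodule.span F ({z, y} : Set (β → F)) :=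
  (jL_alt hM.data.hh).mid hM.hk z b y

theorem dot (u v : β → F) : fn h u ⬝ᵥ v = h v u := fn_dot hM.data.hh.toSesq u v

/-- The overgroup seen at a factor. -/
theorem frm (i : κ) : Frm (Mi M i) (fn h) (RingEquiv.refl F) 1 1 1 := by
  have hh := hM.data.hh
  have hP := hM.toCx.pr i
  have he : ((-1 : F) ^ Fintype.card (Rst i)) = 1 := by rw [neg_one_two hM.h2, one_pow]
  refine
    { J_add := fn_add hh.toSesq
      J_smul := fun r a => hh.fn_smul' r a
      J_inj := fun u e => fn_injective hh.toSesq (e.trans (fn_zero hh.toSesq).symm)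
      refl := fun u v => by
        rw [RingEquiv.refl_apply, one_mul, hM.dot, hM.dot, symp_symm hh hM.h2]
      eps := one_ne_zero
      kappa := one_ne_zero
      pair := ?_
      tau := one_ne_zero
      root := ?_
      adj := ?_
      line_iso := fun f _ y z _ _ => by rw [hM.dot, hh.self]
      dual := fun z y u _ _ _ _ _ _ hu => ?_
      mid := fun z b y => ?_
      perpSpan := fun z _ p hp y hy => hp y (by rw [hM.dot, hh.self]) hy
      topSpan := fun p hp y => hp y (by rw [hM.dot, hh.self]) }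
  · intro z b _ _ hzb
    rw [hM.dot] at hzb
    obtain ⟨B, hB, hBx⟩ := hh.exists_eich (hh.refl _ _ hzb)
    refine ⟨_, hP.kB hB, fun t => LinearMap.congr_fun
      (f := Matrix.toLin' ((k2 (1 : GL (Rst i → β) F) B : GL _ F) : Matrix _ _ F))
      (g := LinearMap.id + (rootMap z (fn h b) LinearMap.id + (1 : F) • rootMap b (fn h z) LinearMap.id))
      (ext_tmul fun x w => ?_) t⟩
    simp only [Matrix.toLin'_apply, k2_mulVec, Units.val_one, Matrix.one_mulVec, hBx, LinearMap.add_apply,
      LinearMap.id_apply, one_smul, rootMap_apply, slice_tmul, hM.dot, tmul_add_right, tmul_smul_right,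
      tmul_smul_left, add_assoc]
  · intro z _
    obtain ⟨B, hB, -, -, hBx⟩ := hh.exists_tv z (1 : F)
    refine ⟨_, hP.kB hB, isKron_of_apply 1 B fun x y => k2_mulVec 1 B x y, fun t => LinearMap.congr_fun
      (f := Matrix.toLin' ((k2 (1 : GL (Rst i → β) F) B : GL _ F) : Matrix _ _ F))
      (g := LinearMap.id + rootMap ((1 : F) • z) (fn h z) LinearMap.id) (ext_tmul fun x w => ?_) t⟩
    simp only [Matrix.toLin'_apply, k2_mulVec, Units.val_one, Matrix.one_mulVec, hBx, LinearMap.add_apply,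
      LinearMap.id_apply, one_smul, one_mul, rootMap_apply, slice_tmul, hM.dot, tmul_add_right, tmul_smul_right,
      tmul_smul_left]
  · intro f hf y v μ hμ x
    refine hP.eq_of_fA fun x' => ?_
    rw [one_mul, RingEquiv.refl_apply, hP.hA.smul_left]
    show tf c h (sl h y _) x' = _
    rw [← hP.f_sl, ← hP.iso hf, mulVec_inv_cancel, hP.symV, hP.f_sl, show sl h v _ = μ • x' from hμ x',
      hP.hA.smul_left, hP.symA, he]
    linear_combination -(μ * tf c h x x') * hM.h2
  · obtain ⟨w, hw, hw0⟩ := hM.pick hu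
    exact ⟨w, by rw [hM.dot, hh.self], hw, hw0 z (Submodule.subset_span (by simp)),
      hw0 y (Submodule.subset_span (by simp))⟩
  · obtain ⟨d, hd⟩ := hM.mid z b y
    exact ⟨d, by rw [hM.dot, hh.self], hd⟩

/-- The two coefficients of a pair element are adjoint. -/
theorem pair_adj {i : κ} {z y : β → F} (hf : Flag (fn h) z y) {g : GL ((Rst i → β) × β) F} (hg : g ∈ Mi M i)
    {A A' : ((Rst i → β) → F) →ₗ[F] ((Rst i → β) → F)}
    (hgx : ∀ t, (g : Matrix _ _ F) *ᵥ t = t + (rootMap z (fn h y) A + rootMap y (fn h z) A') t)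
    (x x' : (Rst i → β) → F) : tf c h x (A' x') = tf c h (A x) x' := by
  have hh := hM.data.hh
  have hP := hM.toCx.pr i
  have hJ := hM.frm i
  obtain ⟨u, hu, hu0⟩ := hM.pick hf.ind
  obtain ⟨v, hv, hv0⟩ := hM.pick (flag_swap hJ hf).ind
  have hzu := hu0 z (Submodule.mem_span_singleton_self z)
  have hyv := hv0 y (Submodule.mem_span_singleton_self y)
  have hzy : fn h z ⬝ᵥ y = 0 := hf.zb
  have e1 : (g : Matrix _ _ F) *ᵥ tmul x u = tmul x u + tmul (A x) z := by
    rw [hgx, LinearMap.add_apply, rootMap_apply, rootMap_apply, slice_tmul, slice_tmul, hu, hzu, one_smul, zero_smul,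
      map_zero, tmul_zero_left, add_zero]
  have e2 : (g : Matrix _ _ F) *ᵥ tmul x' v = tmul x' v + tmul (A' x') y := by
    rw [hgx, LinearMap.add_apply, rootMap_apply, rootMap_apply, slice_tmul, slice_tmul, hv, hyv, one_smul, zero_smul,
      map_zero, tmul_zero_left, zero_add]
  have h1 := hP.iso hg (tmul x u) (tmul x' v)
  rw [e1, e2, hP.hV.add_left, hP.hV.add_right, hP.hV.add_right, hP.ten, hP.ten, hP.ten, hP.ten] at h1
  rw [hM.dot] at hu hv hzu hzy
  rw [hzu] at *
  have hvz : h z v = 1 := by rw [symp_symm hh hM.h2, hv]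
  have hzy' : h z y = 0 := hh.refl _ _ hzy
  rw [hu, hvz, hzy'] at h1
  linear_combination h1 - (tf c h (A x) x') * hM.h2

/-- Pair elements preserve the quadratic form. -/
theorem pair_KT {i : κ} {z y : β → F} (hf : Flag (fn h) z y) {g : GL X F} (hg : g ∈ M)
    {A A' : ((Rst i → β) → F) →ₗ[F] ((Rst i → β) → F)}
    (hgx : ∀ t, (sp i g : Matrix _ _ F) *ᵥ t = t + (rootMap z (fn h y) A + rootMap y (fn h z) A') t) :
    g ∈ KT c h := by
  classical
  have hT := hM.data
  haveI := hM.nonempty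
  haveI := nonempty_rst hM.ht i
  refine ⟨hM.le hg, fun h2 => hT.qc_unique h2 (fun a b => ?_) (fun r a => ?_) fun a => ?_⟩
  · rw [Matrix.mulVec_add, hT.qc_add h2, hM.le hg]
  · rw [Matrix.mulVec_smul, hT.qc_smul]
  · obtain ⟨r, w, hrw⟩ : ∃ r w, spV i (Pi.single a 1 : V) = tmul r w :=
      ⟨_, _, by rw [← ptens_single, spV_ptens]⟩
    have hs := hT.sesq (κ := κ)
    have hzy : h z y = 0 := hT.hh.refl _ _ (by rw [← hM.dot]; exact hf.zb)
    have e : (g : Mn) *ᵥ (Pi.single a 1 : V) = (spV i).symm (tmul r w) +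
        (h w y • (spV i).symm (tmul (A r) z) + h w z • (spV i).symm (tmul (A' r) y)) := by
      rw [← map_smul, ← map_smul, ← map_add, ← map_add, LinearEquiv.eq_symm_apply, ← sp_mulVec, hrw, hgx,
        LinearMap.add_apply, rootMap_apply, rootMap_apply, slice_tmul, slice_tmul, hM.dot, hM.dot, map_smul,
        map_smul, tmul_smul_left, tmul_smul_left]
    rw [e, hT.qc_add h2, hT.qc_add h2, hT.qc_smul, hT.qc_smul, hT.qc_pure h2, hT.qc_pure h2, hT.qc_pure h2,
      hs.add_right, hs.smul_right, hs.smul_right, hs.smul_left, hs.smul_right]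
    have hfs : ∀ s t, tf c h ((spV i).symm s) ((spV i).symm t) = tfs c h i s t := fun _ _ => rfl
    simp only [RingEquiv.refl_apply, hfs, hT.tfs_tmul, hzy,
      hM.pair_adj hf (mem_Mi.2 hg) hgx r r, symm_two hT h2 r (A r)]
    linear_combination (h w y * h w z * tf c h r (A r)) * h2

theorem inP_KT {i : κ} {z y : β → F} (hf : Flag (fn h) z y) {A : ((Rst i → β) → F) →ₗ[F] ((Rst i → β) → F)}
    (hA : InP (Mi M i) (fn h) z y A) : InP (Mi (M ⊓ KT c h) i) (fn h) z y A := by
  obtain ⟨A', k, hk, hkx⟩ := hA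
  obtain ⟨g, hg, rfl⟩ := hk
  exact ⟨A', sp i g, mem_Mi.2 ⟨hg, hM.pair_KT hf hg hkx⟩, hkx⟩

end ECx

end Cfsg.Agent.Classical.TensorSympEven
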