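import Cfsg.Agent.Lib.Classical.TensorPowSympEven.Kron
import Cfsg.Agent.Lib.Classical.TensorPowForm.Even

/-!
Characteristic two, scalar coefficients: centralisers of involutions at the factors, and the overgroup lies in the
stabiliser.
-/

set_option autoImplicit false
set_option linter.unusedSectionVars false
set_option linter.unusedSimpArgs false

namespace Cfsg.Agent.Classical.TensorSympEven

open Matrix Module MaxTv TensorPow
open Cfsg.Agent.Classical.TensorMax (tmul tmul_ne_zero tmul_zero_left tmul_add_right tmul_sub_right tmul_smul_left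
  tmul_smul_right tmul_zero_right slice slice_tmul fac fac_apply fac_injective ext_tmul ext_tmul')
open Cfsg.Agent.Classical.TensorSymp (Symp Iso SData tf tfs vN vN_mulVec vN_mul_self sl sl_tmul' nonempty_rst)
open Cfsg.Agent.Classical.TensorPowForm (IsInv IsInv.mem_wr IsInv.sq IsInv.nonscalar IsInv.comm IsInv.slot_unique
  IsInv.mul_same exists_slot_perm two_slot one_slot dih_split IsRoot)

variable {F : Type*} [Field F] [Fintype F] {κ β : Type} [Fintype κ] [DecidableEq κ] [Fintype β] [DecidableEq β]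

local notation "X" => (κ → β)
local notation "Mn" => Matrix (κ → β) (κ → β) F
local notation "Mb" => Matrix β β F

variable {c : F} {h : (β → F) → (β → F) → F} {M : Subgroup (GL (κ → β) F)}

theorem root_mul_orth (hh : Symp h) {τ : F} {i : κ} {v b : β → F} {T T' : GL X F} (hT : IsRoot h τ i v T)
    (hT' : IsRoot h τ i b T') (hvb : h v b = 0) :
    ∃ U : GL β F, T * T' = pe i U ∧ T' * T = T * T' ∧
      (U : Mb) = 1 + vecMulVec v (τ • fn h v) + vecMulVec b (τ • fn h b) := by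
  obtain ⟨B, hB, rfl⟩ := hT
  obtain ⟨B', hB', rfl⟩ := hT'
  have hbv := hh.refl _ _ hvb
  have e1 : vecMulVec v (τ • fn h v) * vecMulVec b (τ • fn h b) = 0 := by
    rw [vmv_mul, smul_dotProduct, fn_dot hh.toSesq, hbv, smul_zero, zero_smul]
  have e2 : vecMulVec b (τ • fn h b) * vecMulVec v (τ • fn h v) = 0 := by
    rw [vmv_mul, smul_dotProduct, fn_dot hh.toSesq, hvb, smul_zero, zero_smul]
  refine ⟨B * B', (map_mul _ _ _).symm, ?_, ?_⟩
  · rw [← map_mul, ← map_mul]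
    congr 1
    refine Units.ext ?_
    rw [Units.val_mul, Units.val_mul, hB, hB', add_mul, add_mul, mul_add, mul_add, mul_add, mul_add, e1, e2]
    simp only [one_mul, mul_one, add_zero]
    abel
  · rw [Units.val_mul, hB, hB', add_mul, mul_add, mul_add, e1]
    simp only [one_mul, mul_one, add_zero]
    abel

theorem fn_ne (hh : Symp h) {v : β → F} {τ : F} (hv : v ≠ 0) (hτ : τ ≠ 0) : τ • fn h v ≠ 0 :=
  smul_ne_zero hτ fun e => hv (fn_injective hh.toSesq (e.trans (fn_zero hh.toSesq).symm))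

namespace PxE

variable (hM : PxE c h M) (h2 : (2 : F) = 0)
include hM h2

/-- Centralisers of involutions at the factors. -/
theorem cent_inv {i : κ} {T : GL X F} (hT : IsInv M i T) {m : GL X F} (hm : m ∈ M) (hc : m * T = T * m) :
    m ∈ Wr F κ β := by
  classical
  have hh := hM.data.hh
  haveI : Nonempty β := Fintype.card_pos_iff.1 (by have := hM.hk; omega)
  obtain ⟨hTM, hTT, hT1, B, rfl⟩ := id hT
  have hBB : B * B = 1 := IsInv.sq hT
  obtain ⟨y₀, hy₀⟩ : ∃ y, (B : Mb) *ᵥ y - y ≠ 0 := by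
    by_contra hcon
    push Not at hcon
    refine hT1 ?_
    rw [show B = 1 from Units.ext (Matrix.ext_iff_mulVec.2 fun y => by
      rw [Units.val_one, Matrix.one_mulVec]; exact sub_eq_zero.1 (hcon y)), map_one]
  obtain ⟨z, hz⟩ : ∃ z, z = (B : Mb) *ᵥ y₀ - y₀ := ⟨_, rfl⟩
  have hz0 : z ≠ 0 := hz ▸ hy₀
  have hP := hM.toCx.pr i
  obtain ⟨a₁⟩ : Nonempty (Rst i → β) := inferInstance
  obtain ⟨a₂, ha⟩ := hP.hA.exists_one (v := (Pi.single a₁ 1 : (Rst i → β) → F)) (by simp)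
  have hBiso : ∀ y w, h ((B : Mb) *ᵥ y) ((B : Mb) *ᵥ w) = h y w := fun y w => by
    have h1 := hP.iso (mem_Mi.2 hTM) (tmul a₂ y) (tmul (Pi.single a₁ 1) w)
    rw [sp_pe, k2_mulVec, k2_mulVec, Units.val_one, Matrix.one_mulVec, Matrix.one_mulVec, hP.ten, hP.ten, ha, one_mul,
      one_mul] at h1
    exact h1
  have hBz : (B : Mb) *ᵥ z = z := by
    rw [hz, Matrix.mulVec_sub, Matrix.mulVec_mulVec, ← Units.val_mul, hBB, Units.val_one, Matrix.one_mulVec]
    exact eq_of_add_two h2 (by abel)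
  -- vectors of the image are orthogonal to `z`
  have hker : ∀ w, h ((B : Mb) *ᵥ w - w) z = 0 := fun w => by
    have h1 := hBiso w z
    rw [hBz] at h1
    rw [hh.toSesq.sub_left, h1, sub_self]
  obtain ⟨A, hA, hAm, -, hAx⟩ := hh.exists_tv z 1
  rw [one_smul, vN] at hAm
  refine hM.fusion hm hz0 (fun e => hz0 (fn_injective hh.toSesq (e.trans (fn_zero hh.toSesq).symm)))
    (by rw [fn_dot hh.toSesq, hh.self]) hAm (hM.line_mem (j := i) hz0
      (mul_mem (mul_mem hm (hM.toCx.pe_mem i hA)) (inv_mem hm)) ?_)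
  rintro _ ⟨t, ht, rfl⟩
  obtain ⟨x, hx⟩ := mem_line_iff.1 ht
  have hti : spV i (((m⁻¹ : GL X F) : Mn) *ᵥ t) ∈ LinearMap.ker (sl (α := Rst i → β) h z) := by
    have e1 : (spV i) t = (sp i (pe i B) : Matrix ((Rst i → β) × β) ((Rst i → β) × β) F) *ᵥ tmul x y₀ - tmul x y₀ := by
      rw [hx, hz, sp_pe, k2_mulVec, Units.val_one, Matrix.one_mulVec, tmul_sub_right]
    have hc' : (sp i m)⁻¹ * sp i (pe i B) = sp i (pe i B) * (sp i m)⁻¹ := by
      rw [← map_inv, ← map_mul, ← map_mul]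
      congr 1
      exact (Commute.inv_left hc).eq
    rw [LinearMap.mem_ker, ← sp_mulVec, map_inv, e1, Matrix.mulVec_sub, Matrix.mulVec_mulVec, ← Units.val_mul, hc',
      Units.val_mul, ← Matrix.mulVec_mulVec]
    refine LinearMap.congr_fun (f := (sl h z).comp ((Matrix.toLin' (sp i (pe i B) : Matrix ((Rst i → β) × β) ((Rst i → β) × β) F)) - LinearMap.id))
      (g := 0) (ext_tmul' fun x' w => ?_) _
    simp only [LinearMap.comp_apply, LinearMap.sub_apply, LinearMap.id_apply, Matrix.toLin'_apply, sp_pe, k2_mulVec,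
      Units.val_one, Matrix.one_mulVec, map_sub, sl_tmul' hh, ← sub_smul, LinearMap.zero_apply,
      ← hh.toSesq.sub_left, hker, zero_smul]
  refine mem_line_iff.2 ⟨x, ?_⟩
  have e : spV i ((pe i A : Mn) *ᵥ (((m⁻¹ : GL X F) : Mn) *ᵥ t)) = spV i (((m⁻¹ : GL X F) : Mn) *ᵥ t) := by
    rw [← sp_mulVec, sp_pe]
    obtain ⟨s, hs⟩ : ∃ s, s = spV i (((m⁻¹ : GL X F) : Mn) *ᵥ t) := ⟨_, rfl⟩
    rw [← hs] at hti ⊢
    have h1 : Matrix.toLin' (k2 (1 : GL (Rst i → β) F) A : Matrix ((Rst i → β) × β) ((Rst i → β) × β) F) =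
        LinearMap.id + (fac z).comp (sl h z) := ext_tmul fun x' w => by
      rw [Matrix.toLin'_apply, k2_mulVec, Units.val_one, Matrix.one_mulVec, hAx, LinearMap.add_apply, LinearMap.id_apply,
        LinearMap.comp_apply, fac_apply, sl_tmul' hh, tmul_add_right, tmul_smul_right, tmul_smul_left, one_mul]
    rw [← Matrix.toLin'_apply, h1, LinearMap.add_apply, LinearMap.id_apply, LinearMap.comp_apply,
      LinearMap.mem_ker.1 hti, map_zero, add_zero]
  rw [Matrix.toLin'_apply, Units.val_mul, Units.val_mul, ← Matrix.mulVec_mulVec, ← Matrix.mulVec_mulVec,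
    (spV i).injective e, mulVec_inv_cancel, hx]

variable {τ : F} (hτ : τ ≠ 0)
include hτ

theorem exists_isRoot (i : κ) (v : β → F) : ∃ T, IsRoot h τ i v T := by
  obtain ⟨B, -, hB, -, -⟩ := hM.data.hh.exists_tv v τ
  exact ⟨_, B, by rw [hB, vN, Matrix.vecMulVec_smul], rfl⟩

theorem root_inv {i : κ} {v : β → F} {T : GL X F} (hv0 : v ≠ 0) (hT : IsRoot h τ i v T) :
    IsInv M i T := by
  have hh := hM.data.hh
  haveI : Nonempty β := Fintype.card_pos_iff.1 (by have := hM.hk; omega)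
  obtain ⟨B, hB, rfl⟩ := hT
  obtain ⟨B₀, hB₀, hB₀m, -, -⟩ := hh.exists_tv v τ
  rw [vN, ← Matrix.vecMulVec_smul] at hB₀m
  have hφv : (τ • fn h v) ⬝ᵥ v = 0 := by rw [smul_dotProduct, fn_dot hh.toSesq, hh.self, smul_zero]
  obtain rfl : B = B₀ := Units.ext (hB.trans hB₀m.symm)
  refine ⟨hM.toCx.pe_mem i hB₀, ?_, fun e => ?_, B, rfl⟩
  · rw [← map_mul, ← map_one (pe (F := F) (β := β) i)]
    congr 1
    refine Units.ext ?_
    rw [Units.val_mul, hB, add_mul, mul_add, mul_add, vmv_mul, hφv, zero_smul, one_mul, mul_one, one_mul, add_zero,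
      add_assoc, ← two_smul F (vecMulVec v (τ • fn h v)), h2, zero_smul, add_zero, Units.val_one]
  · have hB1 : B = 1 := pe_injective i (e.trans (map_one _).symm)
    rw [hB1, Units.val_one] at hB
    exact vmv_ne_zero hv0 (fn_ne hh hv0 hτ) (add_eq_left.1 hB.symm)

theorem root_fusion {i : κ} {v : β → F} {T g : GL X F} (hv0 : v ≠ 0) (hT : IsRoot h τ i v T)
    (hg : g ∈ M) (hgW : g * T * g⁻¹ ∈ Wr F κ β) : g ∈ Wr F κ β := by
  have hh := hM.data.hh
  obtain ⟨B, hB, rfl⟩ := hT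
  exact hM.fusion hg hv0 (fn_ne hh hv0 hτ)
    (by rw [smul_dotProduct, fn_dot hh.toSesq, hh.self, smul_zero]) hB hgW

theorem pair_inv {i : κ} {v b : β → F} {T T' : GL X F} (hv0 : v ≠ 0)
    (hb0 : b ≠ 0) (hvb : h v b = 0) (hind : ∀ r : F, b ≠ r • v) (hT : IsRoot h τ i v T)
    (hT' : IsRoot h τ i b T') :
    IsInv M i (T * T') ∧ ∀ (l : κ) (z : β → F) (Z k : GL X F), z ≠ 0 → IsRoot h τ l z Z → k ∈ M →
      k * Z * k⁻¹ ≠ T * T' := by
  classical
  have hh := hM.data.hh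
  haveI : Nontrivial β := Fintype.one_lt_card_iff_nontrivial.1 (by have := hM.hk; omega)
  obtain ⟨U, hU, hcomm, hUm⟩ := root_mul_orth hh hT hT' hvb
  have hi := hM.root_inv h2 hτ hv0 hT
  have hi' := hM.root_inv h2 hτ hb0 hT'
  -- vectors dual to the two
  have dual : ∀ {a a' : β → F}, a ≠ 0 → a' ≠ 0 → (∀ r : F, a ≠ r • a') → ∃ x, h x a = 1 ∧ h x a' = 0 := by
    intro a a' ha ha' hind'
    obtain ⟨x, hx1, hx0⟩ := exists_dot_one (u := fn h a) (S := F ∙ fn h a') fun hm => by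
      obtain ⟨r, hr⟩ := Submodule.mem_span_singleton.1 hm
      refine hind' (r) (fn_injective hh.toSesq ?_)
      rw [hh.fn_smul', hr]
    exact ⟨x, by rw [← fn_dot hh.toSesq, dotProduct_comm, hx1], by
      rw [← fn_dot hh.toSesq, dotProduct_comm]; exact hx0 _ (Submodule.mem_span_singleton_self _)⟩
  have hind2 : ∀ r : F, v ≠ r • b := fun r e => by
    rcases eq_or_ne r 0 with rfl | hr
    · exact hv0 (by rw [e, zero_smul])
    · exact hind r⁻¹ (by rw [e, smul_smul, inv_mul_cancel₀ hr, one_smul])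
  obtain ⟨x, hx1, hx0⟩ := dual hv0 hb0 hind2
  obtain ⟨y, hy1, hy0⟩ := dual hb0 hv0 hind
  have hUx : (U : Mb) *ᵥ x = x + τ • v := by
    rw [hUm, Matrix.add_mulVec, Matrix.add_mulVec, Matrix.one_mulVec, Matrix.vecMulVec_mulVec,
      Matrix.vecMulVec_mulVec, op_smul_eq_smul, op_smul_eq_smul, smul_dotProduct, smul_dotProduct,
      fn_dot hh.toSesq, fn_dot hh.toSesq, hx1, hx0, smul_zero, zero_smul, add_zero, smul_eq_mul, mul_one]
  have hUy : (U : Mb) *ᵥ y = y + τ • b := by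
    rw [hUm, Matrix.add_mulVec, Matrix.add_mulVec, Matrix.one_mulVec, Matrix.vecMulVec_mulVec,
      Matrix.vecMulVec_mulVec, op_smul_eq_smul, op_smul_eq_smul, smul_dotProduct, smul_dotProduct,
      fn_dot hh.toSesq, fn_dot hh.toSesq, hy1, hy0, smul_zero, zero_smul, add_zero, smul_eq_mul, mul_one]
  have hsq : T * T' * (T * T') = 1 := by
    rw [mul_assoc, ← mul_assoc T' T T', hcomm, mul_assoc T T' T', hi'.2.1, mul_one, hi.2.1]
  have hne : T * T' ≠ 1 := fun e => by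
    have hU1 : U = 1 := pe_injective i (hU.symm.trans (e.trans (map_one _).symm))
    rw [hU1, Units.val_one, Matrix.one_mulVec, left_eq_add] at hUx
    exact smul_ne_zero hτ hv0 hUx
  refine ⟨⟨mul_mem hi.1 hi'.1, hsq, hne, U, hU⟩, fun l z Z k hz0 hZ hk he => ?_⟩
  have hkW : k ∈ Wr F κ β := hM.root_fusion h2 hτ hz0 hZ hk (by rw [he, hU]; exact TensorPow.pe_mem i U)
  obtain ⟨π, gs, rfl⟩ := hkW
  obtain ⟨A, hA, rfl⟩ := hZ
  rw [conj_pe, hU] at he
  have hi2 : IsInv M i (pe i U) := hU ▸ ⟨mul_mem hi.1 hi'.1, hsq, hne, U, hU⟩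
  obtain ⟨-, hUA⟩ := pe_eq (hi2.nonscalar h2) he.symm
  obtain ⟨g, hg⟩ : ∃ g, g = gs (π⁻¹ l) := ⟨_, rfl⟩
  rw [← hg] at hUA
  have hline : ∀ t : β → F, ∃ r : F, (U : Mb) *ᵥ t - t = r • (g : Mb) *ᵥ z := fun t => by
    refine ⟨(τ • fn h z) ⬝ᵥ (((g⁻¹ : GL β F) : Mb) *ᵥ t), ?_⟩
    rw [hUA, Units.val_mul, Units.val_mul, ← Matrix.mulVec_mulVec, ← Matrix.mulVec_mulVec, hA, Matrix.add_mulVec,
      Matrix.one_mulVec, Matrix.vecMulVec_mulVec, op_smul_eq_smul, Matrix.mulVec_add, mulVec_inv_cancel,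
      Matrix.mulVec_smul, add_sub_cancel_left]
  obtain ⟨r₁, hr₁⟩ := hline x
  obtain ⟨r₂, hr₂⟩ := hline y
  rw [hUx, add_sub_cancel_left] at hr₁
  rw [hUy, add_sub_cancel_left] at hr₂
  have hr₁0 : r₁ ≠ 0 := fun e => smul_ne_zero hτ hv0 (by rw [hr₁, e, zero_smul])
  refine hind (r₂ / r₁) (smul_right_injective _ hτ ?_)
  show τ • b = τ • (r₂ / r₁) • v
  rw [smul_comm, hr₁, hr₂, smul_smul, div_mul_cancel₀ _ hr₁0]

/-- Centralisers of products of a root element and an involution at another factor. -/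
theorem cent_two {i j : κ} (hij : i ≠ j) {v : β → F} (hv0 : v ≠ 0) {s r : GL X F}
    (hs : IsRoot h τ i v s) (hr : IsInv M j r) {m : GL X F} (hm : m ∈ M) (hc : m * (s * r) = s * r * m) :
    m ∈ Wr F κ β := by
  classical
  by_contra hno
  have hh := hM.data.hh
  haveI : Nontrivial β := Fintype.one_lt_card_iff_nontrivial.1 (by have := hM.hk; omega)
  obtain ⟨b, hbv, -, -, hout, -⟩ := hM.toECx.mid v v v
  rw [hM.toECx.dot] at hbv
  have hb0 : b ≠ 0 := fun e0 => hout (e0 ▸ zero_mem _)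
  have hind : ∀ a : F, b ≠ a • v := fun a e0 => hout (e0 ▸ Submodule.smul_mem _ a (Submodule.subset_span (by simp)))
  have hvb := hh.refl _ _ hbv
  obtain ⟨s₂, hs₂⟩ := hM.exists_isRoot h2 hτ i b
  have hsi := hM.root_inv h2 hτ hv0 hs
  have hs₂i := hM.root_inv h2 hτ hb0 hs₂
  obtain ⟨hu, hunot⟩ := hM.pair_inv h2 hτ hv0 hb0 hvb hind hs hs₂
  obtain ⟨-, -, hcss, -⟩ := root_mul_orth hh hs hs₂ hvb
  obtain ⟨ι, hι⟩ : ∃ ι, ι = s * r := ⟨_, rfl⟩
  rw [← hι] at hc
  have hsr := hsi.comm hr hij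
  have hιs : ι * s = s * ι := by rw [hι, mul_assoc, ← hsr, ← mul_assoc]
  have hιs₂ : ι * s₂ = s₂ * ι := by
    rw [hι, mul_assoc, ← hs₂i.comm hr hij, ← mul_assoc, ← hcss, mul_assoc]
  have hιι : ι * ι = 1 := by
    rw [hι, mul_assoc, ← mul_assoc r s r, ← hsr, mul_assoc s r r, hr.2.1, mul_one, hsi.2.1]
  obtain ⟨d, hd⟩ : ∃ d, d = m * s * m⁻¹ := ⟨_, rfl⟩
  have hdM : d ∈ M := hd ▸ mul_mem (mul_mem hm hsi.1) (inv_mem hm)
  have hdd : d * d = 1 := by
    rw [hd, show m * s * m⁻¹ * (m * s * m⁻¹) = m * (s * s) * m⁻¹ by group, hsi.2.1, mul_one, mul_inv_cancel]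
  have hdW : d ∉ Wr F κ β := fun hdW => hno (hM.root_fusion h2 hτ hv0 hs hm (hd ▸ hdW))
  have hdι : Commute d ι := hd ▸ ((Commute.mul_left hc hιs.symm).mul_left (Commute.inv_left hc))
  have huι : Commute (s * s₂) ι := Commute.mul_left hιs.symm hιs₂.symm
  have hwι : ∀ n : ℕ, Commute ((d * (s * s₂)) ^ n) ι := fun n => (hdι.mul_left huι).pow_left n
  have hwM : ∀ n : ℕ, (d * (s * s₂)) ^ n ∈ M := fun n => pow_mem (mul_mem hdM hu.1) n
  -- conjugates of `s` by elements centralising the product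
  have key : ∀ k ∈ M, Commute k ι → k * s * k⁻¹ ∈ Wr F κ β → k * s * k⁻¹ = s ∨ k * s * k⁻¹ = r := by
    intro k hk hkι hkW
    obtain ⟨π, hπ⟩ := exists_slot_perm hk (hM.root_fusion h2 hτ hv0 hs hk hkW)
    refine two_slot h2 (hπ i s hsi) (hπ j r hr) (fun e => hij (π.injective e)) hsi hr hij ?_
    rw [show k * s * k⁻¹ * (k * r * k⁻¹) = k * (s * r) * k⁻¹ by group, ← hι, hkι.eq, mul_inv_cancel_right]
  rcases dih_split hdd hu.2.1 with ⟨n, hn⟩ | ⟨z, hzz, hz1, hzd, hzu, ⟨l, hl⟩, hcase⟩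
  · refine hunot i v s _ hv0 hs (mul_mem (hwM n) hm) (Eq.trans ?_ hn)
    rw [hd]; group
  have hzM : z ∈ M := hl ▸ hwM l
  have hzW : z ∈ Wr F κ β := hM.cent_inv h2 hu hzM hzu
  rcases hcase with ⟨n, hn⟩ | ⟨n, hn, hn'⟩
  · obtain ⟨k, hk⟩ : ∃ k, k = (d * (s * s₂)) ^ n * m := ⟨_, rfl⟩
    have hks : k * s * k⁻¹ = z * (s * s₂) := by
      rw [← hn, hk, hd]; group
    have hzι : Commute z ι := hl ▸ hwι l
    refine hdW (hM.cent_inv h2 hs₂i hdM ?_)
    rcases key k (hk ▸ mul_mem (hwM n) hm) (hk ▸ (hwι n).mul_left hc)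
        (by rw [hks]; exact mul_mem hzW hu.mem_wr) with e | e
    · have hz : z = s₂ := by
        have h1 : z * (s * s₂) = s := hks.symm.trans e
        calc z = z * ((s * s₂) * (s * s₂)) := by rw [hu.2.1, mul_one]
          _ = s * (s * s₂) := by rw [← mul_assoc, h1]
          _ = s₂ := by rw [← mul_assoc, hsi.2.1, one_mul]
      rw [← hz, hzd]
    · have hz : z = ι * s₂ := by
        have h1 : z * (s * s₂) = r := hks.symm.trans e
        calc z = z * ((s * s₂) * (s * s₂)) := by rw [hu.2.1, mul_one]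
          _ = r * (s * s₂) := by rw [← mul_assoc, h1]
          _ = ι * s₂ := by rw [← mul_assoc, ← hsr, ← hι]
      have hs₂z : s₂ = ι * z := by rw [hz, ← mul_assoc, hιι, one_mul]
      rw [hs₂z]
      exact hdι.mul_right (show Commute d z from hzd.symm)
  · -- `z * d` is conjugate to `d`
    obtain ⟨k, hk⟩ : ∃ k, k = m⁻¹ * (d * (s * s₂)) ^ n * m := ⟨_, rfl⟩
    have hks : k * s * k⁻¹ = m⁻¹ * z * m * s := by
      calc k * s * k⁻¹ = m⁻¹ * ((d * (s * s₂)) ^ n * (m * s * m⁻¹) * ((d * (s * s₂)) ^ n)⁻¹) * m := by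
            rw [hk]; group
        _ = m⁻¹ * (z * (m * s * m⁻¹)) * m := by rw [← hd, hn]
        _ = m⁻¹ * z * m * s := by group
    have hkM : k ∈ M := hk ▸ mul_mem (mul_mem (inv_mem hm) (hwM n)) hm
    have hzs : Commute (m⁻¹ * z * m) s := by
      show m⁻¹ * z * m * s = s * (m⁻¹ * z * m)
      calc m⁻¹ * z * m * s = m⁻¹ * (z * d) * m := by rw [hd]; group
        _ = m⁻¹ * (d * z) * m := by rw [hzd]
        _ = s * (m⁻¹ * z * m) := by rw [hd]; group
    have hksW : k * s * k⁻¹ ∈ Wr F κ β := by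
      refine hM.cent_inv h2 hsi (mul_mem (mul_mem hkM hsi.1) (inv_mem hkM)) ?_
      rw [hks]
      exact (hzs.mul_left (Commute.refl s)).eq
    rcases key k hkM (hk ▸ ((Commute.inv_left hc).mul_left (hwι n)).mul_left hc) hksW with e | e
    · refine hz1 ?_
      have h1 : m⁻¹ * z * m = 1 := by
        have := hks.symm.trans e
        rwa [mul_eq_right] at this
      calc z = m * (m⁻¹ * z * m) * m⁻¹ := by group
        _ = 1 := by rw [h1, mul_one, mul_inv_cancel]
    · have hz : z = ι := by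
        have h1 : m⁻¹ * z * m = ι := by
          calc m⁻¹ * z * m = m⁻¹ * z * m * s * s := by rw [mul_assoc _ s s, hsi.2.1, mul_one]
            _ = r * s := by rw [hks.symm.trans e]
            _ = ι := by rw [← hsr, hι]
        calc z = m * (m⁻¹ * z * m) * m⁻¹ := by group
          _ = ι := by rw [h1, show Commute m ι from hc, mul_inv_cancel_right]
      obtain ⟨w, hw⟩ : ∃ w, w = (d * (s * s₂)) ^ n := ⟨_, rfl⟩
      rw [← hw, hz] at hn'
      have hwι' : Commute w ι := hw ▸ hwι n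
      have hwM' : w ∈ M := hw ▸ hwM n
      have hsu : Commute s (s * s₂) := (Commute.refl s).mul_right hcss.symm
      -- the conjugate of `s` commutes with `s * s₂`
      have h1 : Commute (w * s * w⁻¹) ι := (hwι'.mul_left hιs.symm).mul_left hwι'.inv_left
      have h2' : Commute (w * s * w⁻¹) (ι * (s * s₂)) := by
        rw [← hn']
        show w * s * w⁻¹ * (w * (s * s₂) * w⁻¹) = w * (s * s₂) * w⁻¹ * (w * s * w⁻¹)
        calc w * s * w⁻¹ * (w * (s * s₂) * w⁻¹) = w * (s * (s * s₂)) * w⁻¹ := by group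
          _ = w * (s * s₂ * s) * w⁻¹ := by rw [hsu.eq]
          _ = w * (s * s₂) * w⁻¹ * (w * s * w⁻¹) := by group
      have h3 : Commute (w * s * w⁻¹) (s * s₂) := by
        have := h1.mul_right h2'
        rwa [← mul_assoc, hιι, one_mul] at this
      have hwW : w ∈ Wr F κ β := hM.root_fusion h2 hτ hv0 hs hwM'
        (hM.cent_inv h2 hu (mul_mem (mul_mem hwM' hsi.1) (inv_mem hwM')) h3.eq)
      obtain ⟨π, hπ⟩ := exists_slot_perm hwM' hwW
      refine one_slot h2 (hπ i _ hu) hr hs₂i (Ne.symm hij) ?_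
      rw [hn', hι, hsr, mul_assoc, ← mul_assoc s s s₂, hsi.2.1, one_mul]

/-- A conjugate of a product of two orthogonal root elements. -/
theorem pair_conj {g : GL X F} (hg : g ∈ M) (hgW : g ∉ Wr F κ β) {i : κ} {v b : β → F} {T T' : GL X F}
    (hv0 : v ≠ 0) (hb0 : b ≠ 0) (hvb : h v b = 0) (hind : ∀ r : F, b ≠ r • v)
    (hT : IsRoot h τ i v T) (hT' : IsRoot h τ i b T') : g⁻¹ * (T * T') * g ∈ Wr F κ β := by
  classical
  haveI : Nontrivial β := Fintype.one_lt_card_iff_nontrivial.1 (by have := hM.hk; omega)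
  obtain ⟨hu, hunot⟩ := hM.pair_inv h2 hτ hv0 hb0 hvb hind hT hT'
  have hTi := hM.root_inv h2 hτ hv0 hT
  obtain ⟨u, hu'⟩ : ∃ u, u = T * T' := ⟨_, rfl⟩
  rw [← hu'] at hu hunot ⊢
  obtain ⟨d, hd⟩ : ∃ d, d = g * T * g⁻¹ := ⟨_, rfl⟩
  have hdM : d ∈ M := hd ▸ mul_mem (mul_mem hg hTi.1) (inv_mem hg)
  have hdd : d * d = 1 := by
    rw [hd, show g * T * g⁻¹ * (g * T * g⁻¹) = g * (T * T) * g⁻¹ by group, hTi.2.1, mul_one, mul_inv_cancel]
  have hdW : d ∉ Wr F κ β := fun hdW => hgW (hM.root_fusion h2 hτ hv0 hT hg (hd ▸ hdW))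
  have hwM : ∀ n : ℕ, (d * u) ^ n ∈ M := fun n => pow_mem (mul_mem hdM hu.1) n
  rcases dih_split hdd hu.2.1 with ⟨n, hn⟩ | ⟨z, hzz, hz1, hzd, hzu, ⟨l, hl⟩, hcase⟩
  · refine absurd (Eq.trans ?_ hn) (hunot i v T ((d * u) ^ n * g) hv0 hT (mul_mem (hwM n) hg))
    rw [hd]; group
  have hzM : z ∈ M := hl ▸ hwM l
  have hzW : z ∈ Wr F κ β := hM.cent_inv h2 hu hzM hzu
  rcases hcase with ⟨n, hn⟩ | ⟨n, hn, -⟩
  · exfalso
    obtain ⟨k, hk⟩ : ∃ k, k = (d * u) ^ n * g := ⟨_, rfl⟩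
    have hkM : k ∈ M := hk ▸ mul_mem (hwM n) hg
    have hkT : k * T * k⁻¹ = z * u := by rw [← hn, hk, hd]; group
    have hkW : k ∈ Wr F κ β :=
      hM.root_fusion h2 hτ hv0 hT hkM (by rw [hkT]; exact mul_mem hzW hu.mem_wr)
    obtain ⟨π, hπ⟩ := exists_slot_perm hkM hkW
    have hT1 := hπ i T hTi
    have hzeq : z = k * T * k⁻¹ * u := by rw [hkT, mul_assoc, hu.2.1, mul_one]
    rcases eq_or_ne (π i) i with e | e
    · rw [e] at hT1
      refine hdW (hM.cent_inv h2 (T := z) (i := i) ?_ hdM hzd.symm)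
      rw [hzeq]
      exact hT1.mul_same hu (hzeq ▸ hz1) (hzeq ▸ hzz)
    · obtain ⟨π', hπ'⟩ := exists_slot_perm (inv_mem hkM) (inv_mem hkW)
      have hT0 := hπ' _ _ hT1
      rw [show k⁻¹ * (k * T * k⁻¹) * k⁻¹⁻¹ = T by group] at hT0
      have hR := hπ' i u hu
      rw [inv_inv] at hR
      have hne : i ≠ π' i := fun e' => e (π'.injective ((IsInv.slot_unique h2 hT0 hTi).trans e'))
      refine hdW ?_
      have h1 := hM.cent_two h2 hτ hne hv0 hT hR
        (mul_mem (mul_mem (inv_mem hkM) hdM) hkM) ?_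
      · have := mul_mem (mul_mem hkW h1) (inv_mem hkW)
        rwa [show k * (k⁻¹ * d * k) * k⁻¹ = d by group] at this
      · have e2 : T * (k⁻¹ * u * k) = k⁻¹ * z * k := by rw [hzeq]; group
        rw [e2]
        calc k⁻¹ * d * k * (k⁻¹ * z * k) = k⁻¹ * (d * z) * k := by group
          _ = k⁻¹ * (z * d) * k := by rw [hzd]
          _ = k⁻¹ * z * k * (k⁻¹ * d * k) := by group
  · obtain ⟨k, hk⟩ : ∃ k, k = g⁻¹ * (d * u) ^ n * g := ⟨_, rfl⟩
    have hkM : k ∈ M := hk ▸ mul_mem (mul_mem (inv_mem hg) (hwM n)) hg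
    obtain ⟨y, hy⟩ : ∃ y, y = g⁻¹ * z * g := ⟨_, rfl⟩
    have hyT : Commute y T := by
      show y * T = T * y
      calc y * T = g⁻¹ * (z * d) * g := by rw [hy, hd]; group
        _ = g⁻¹ * (d * z) * g := by rw [hzd]
        _ = T * y := by rw [hy, hd]; group
    have hkT : k * T * k⁻¹ = y * T := by
      calc k * T * k⁻¹ = g⁻¹ * ((d * u) ^ n * (g * T * g⁻¹) * ((d * u) ^ n)⁻¹) * g := by rw [hk]; group
        _ = g⁻¹ * (z * (g * T * g⁻¹)) * g := by rw [← hd, hn]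
        _ = y * T := by rw [hy]; group
    have hkTM : k * T * k⁻¹ ∈ M := mul_mem (mul_mem hkM hTi.1) (inv_mem hkM)
    have hkW : k ∈ Wr F κ β := hM.root_fusion h2 hτ hv0 hT hkM
      (hM.cent_inv h2 hTi hkTM (by rw [hkT]; exact (hyT.mul_left (Commute.refl T)).eq))
    obtain ⟨π, hπ⟩ := exists_slot_perm hkM hkW
    have hT1 := hπ i T hTi
    have hyeq : y = k * T * k⁻¹ * T := by rw [hkT, mul_assoc, hTi.2.1, mul_one]
    have hyy : y * y = 1 := by
      rw [hy, show g⁻¹ * z * g * (g⁻¹ * z * g) = g⁻¹ * (z * z) * g by group, hzz, mul_one, inv_mul_cancel]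
    have hy1 : y ≠ 1 := fun e => hz1 (by
      calc z = g * y * g⁻¹ := by rw [hy]; group
        _ = 1 := by rw [e, mul_one, mul_inv_cancel])
    have hxM : g⁻¹ * u * g ∈ M := mul_mem (mul_mem (inv_mem hg) hu.1) hg
    have hxy : g⁻¹ * u * g * y = y * (g⁻¹ * u * g) := by
      calc g⁻¹ * u * g * y = g⁻¹ * (u * z) * g := by rw [hy]; group
        _ = g⁻¹ * (z * u) * g := by rw [hzu]
        _ = y * (g⁻¹ * u * g) := by rw [hy]; group
    rcases eq_or_ne (π i) i with e | e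
    · rw [e] at hT1
      refine hM.cent_inv h2 (T := y) (i := i) ?_ hxM hxy
      rw [hyeq]
      exact hT1.mul_same hTi (hyeq ▸ hy1) (hyeq ▸ hyy)
    · refine hM.cent_two h2 hτ (Ne.symm e) hv0 hT hT1 hxM ?_
      rwa [← hT1.comm hTi e, ← hyeq]


omit hτ in
/-- In characteristic two an overgroup with scalar coefficients lies in the stabiliser. -/
theorem le_of_even : M ≤ Wr F κ β := by
  classical
  intro g hg
  by_contra hgW
  have hh := hM.data.hh
  have hk := hM.hk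
  obtain ⟨i⟩ : Nonempty κ := hM.toECx.nonempty
  haveI : Nonempty β := Fintype.card_pos_iff.1 (by omega)
  obtain ⟨b₀⟩ : Nonempty β := inferInstance
  have hz0 : (Pi.single b₀ 1 : β → F) ≠ 0 := by simp
  generalize (Pi.single b₀ 1 : β → F) = z at hz0
  obtain ⟨b, hbz, -, -, hbout, -⟩ := hM.toECx.mid z z z
  obtain ⟨d, hdz, hdb, -, hdout, -⟩ := hM.toECx.mid z b z
  rw [hM.toECx.dot] at hbz hdz hdb
  have key : ∀ x y w : F, x • z + y • b + w • d = 0 → x = 0 ∧ y = 0 ∧ w = 0 := by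
    intro x y w e
    have hw : w = 0 := by
      by_contra hw
      refine hdout (Submodule.mem_span_pair.2 ⟨-(w⁻¹ * x), -(w⁻¹ * y), ?_⟩)
      have e' := congrArg (w⁻¹ • ·) e
      simp only [smul_zero, smul_add, smul_smul, inv_mul_cancel₀ hw, one_smul] at e'
      linear_combination (norm := module) -e'
    subst hw
    rw [zero_smul, add_zero] at e
    have hy : y = 0 := by
      by_contra hy
      refine hbout (Submodule.mem_span_pair.2 ⟨-(y⁻¹ * x), 0, ?_⟩)
      have e' := congrArg (y⁻¹ • ·) e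
      simp only [smul_zero, smul_add, smul_smul, inv_mul_cancel₀ hy, one_smul] at e'
      linear_combination (norm := module) -e'
    subst hy
    rw [zero_smul, add_zero] at e
    exact ⟨(smul_eq_zero.1 e).resolve_right hz0, rfl, rfl⟩
  -- the span of the three vectors is totally isotropic
  have iso : ∀ p ∈ ([z, b, d] : List (β → F)), ∀ q ∈ ([z, b, d] : List (β → F)), h p q = 0 := by
    simp only [List.mem_cons, List.not_mem_nil, or_false, forall_eq_or_imp, forall_eq]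
    exact ⟨⟨hh.self _, hh.refl _ _ hbz, hh.refl _ _ hdz⟩, ⟨hbz, hh.self _, hh.refl _ _ hdb⟩, hdz, hdb, hh.self _⟩
  have conj : ∀ (v w : β → F), v ≠ 0 → w ≠ 0 → h v w = 0 → (∀ r : F, w ≠ r • v) →
      ∃ U : GL β F, g⁻¹ * pe i U * g ∈ Wr F κ β ∧
        (U : Mb) = 1 + vecMulVec v (fn h v) + vecMulVec w (fn h w) := by
    intro v w hv hw hvw hind
    obtain ⟨T, hT⟩ := hM.exists_isRoot h2 one_ne_zero i v
    obtain ⟨T', hT'⟩ := hM.exists_isRoot h2 one_ne_zero i w
    obtain ⟨U, hU, -, hUm⟩ := root_mul_orth hh hT hT' hvw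
    refine ⟨U, hU ▸ hM.pair_conj h2 one_ne_zero hg hgW hv hw hvw hind hT hT', ?_⟩
    rw [hUm, one_smul, one_smul]
  have hne : ∀ x y w : F, x = 1 ∨ y = 1 ∨ w = 1 → x • z + y • b + w • d ≠ 0 := fun x y w h1 e => by
    obtain ⟨rfl, rfl, rfl⟩ := key x y w e
    rcases h1 with h1 | h1 | h1 <;> exact one_ne_zero h1.symm
  obtain ⟨U₁, hU₁, hU₁m⟩ := conj b d (by simpa using hne 0 1 0 (by simp)) (by simpa using hne 0 0 1 (by simp))
    (iso _ (by simp) _ (by simp)) fun r e => one_ne_zero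
      (key 0 (-r) 1 (by rw [e]; module)).2.2
  obtain ⟨U₂, hU₂, hU₂m⟩ := conj (b + d) (z + b) (by simpa using hne 0 1 1 (by simp))
    (by simpa using hne 1 1 0 (by simp))
    (by simp only [hh.toSesq.add_left, hh.toSesq.add_right, hh.self, hbz, hdz, hdb, hh.refl _ _ hdb, add_zero])
    fun r e => one_ne_zero
      (key 1 (1 - r) (-r) (by linear_combination (norm := module) e)).1
  obtain ⟨U₃, hU₃, hU₃m⟩ := conj (z + d) (z + b + d) (by simpa using hne 1 0 1 (by simp))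
    (by simpa using hne 1 1 1 (by simp))
    (by simp only [hh.toSesq.add_left, hh.toSesq.add_right, hh.self, hbz, hdz, hdb, hh.refl _ _ hdb, hh.refl _ _ hbz,
      hh.refl _ _ hdz, add_zero])
    fun r e => one_ne_zero
      (key (1 - r) 1 (1 - r) (by linear_combination (norm := module) e)).2.1
  obtain ⟨T, hT⟩ := hM.exists_isRoot h2 one_ne_zero i z
  obtain ⟨B, hB, hTB⟩ := id hT
  have hprod : U₁ * U₂ * U₃ = B := by
    refine Units.ext ?_
    have orth : ∀ p q : β → F, h q p = 0 → vecMulVec p (fn h p) * vecMulVec q (fn h q) = 0 := fun p q e => by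
      rw [vmv_mul, fn_dot hh.toSesq, e, zero_smul]
    rw [Units.val_mul, Units.val_mul, hU₁m, hU₂m, hU₃m, hB, one_smul]
    simp only [add_mul, mul_add, one_mul, mul_one]
    repeat rw [orth _ _ (by simp only [hh.toSesq.add_left, hh.toSesq.add_right, hh.self, hbz, hdz, hdb,
      hh.refl _ _ hdb, hh.refl _ _ hbz, hh.refl _ _ hdz, add_zero])]
    simp only [zero_mul, mul_zero, add_zero, zero_add, fn_add hh.toSesq, Matrix.vecMulVec_add, Matrix.add_vecMulVec]
    linear_combination (norm := module) add_self_two h2 (vecMulVec z (fn h z) + (2 : F) • vecMulVec b (fn h b) + (2 : F) • vecMulVec d (fn h d) +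
      vecMulVec z (fn h b) + vecMulVec b (fn h z) + vecMulVec z (fn h d) + vecMulVec d (fn h z) +
      vecMulVec b (fn h d) + vecMulVec d (fn h b))
  refine hgW ?_
  have h1 : g⁻¹ * T * g⁻¹⁻¹ ∈ Wr F κ β := by
    rw [hTB, ← hprod, inv_inv, map_mul, map_mul,
      show g⁻¹ * (pe i U₁ * pe i U₂ * pe i U₃) * g = g⁻¹ * pe i U₁ * g * (g⁻¹ * pe i U₂ * g) * (g⁻¹ * pe i U₃ * g) by
        group]
    exact mul_mem (mul_mem hU₁ hU₂) hU₃
  simpa using inv_mem (hM.root_fusion h2 one_ne_zero hz0 hT (inv_mem hg) h1)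

end PxE

end Cfsg.Agent.Classical.TensorSympEven
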