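import Cfsg.Agent.Lib.Classical.TensorPowSympEven.Rich
import Cfsg.Agent.Lib.Classical.TensorPowSymp.Kron
import Cfsg.Agent.Lib.Classical.TensorPowForm.Kron

/-!
Characteristic two, scalar coefficients: elements of product shape and elements mapping a line of a factor to a line
lie in the stabiliser; fusion of transvections at the factors; the derived group does not stabilise the decomposition.
-/

set_option autoImplicit false
set_option linter.unusedSectionVars false
set_option linter.unusedSimpArgs false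

open scoped Kronecker

namespace Cfsg.Agent.Classical.TensorSympEven

open Matrix Module MaxTv TensorPow Overfield
open Cfsg.Agent.Classical.TensorMax hiding Frm symm_zero J_zero isolate mem_span_swap flag_scale moveR moveL moveR' moveL'
  pCoef_of_inP exists_J scalAt_upMap adj_line fix_perp kron_of_fix
open Cfsg.Agent.Classical.TensorSymp (Symp Iso SData gram tf tfs KT GT GT_le_Iso GT_le_KT vN Cx emb sp_emb nonempty_rst
  card_rst_one conj_Iso MaxAt ext_ptens Big)
open Cfsg.Agent.Classical.TensorPowForm (line_of_tv_conj)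

variable {F : Type*} [Field F] [Fintype F] {κ β : Type} [Fintype κ] [DecidableEq κ] [Fintype β] [DecidableEq β]

local notation "X" => (κ → β)
local notation "V" => ((κ → β) → F)
local notation "Mn" => Matrix (κ → β) (κ → β) F
local notation "Mb" => Matrix β β F

/-- An overgroup with scalar coefficients at each factor, with the induction hypothesis. -/
structure PxE (c : F) (h : (β → F) → (β → F) → F) (M : Subgroup (GL (κ → β) F)) : Prop extends ECx c h M where
  scal : ∀ i, Scal (Mi M i) (fn h)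
  ih : ∀ i : κ, 2 ≤ Fintype.card (Rst i) → MaxAt c h (Rst i)

theorem wm_sp {i : κ} (gs : κ → Mb) {a b : β → F} {h : (β → F) → (β → F) → F}
    (hi : gs i = vecMulVec a (fn h b)) (x : V) :
    spV i (Matrix.toLin' (wm 1 gs) x) =
      rootMap a (fn h b) (Matrix.toLin' (wm 1 fun j : Rst i => gs j.1)) (spV i x) := by
  refine LinearMap.congr_fun (f := (spV i).toLinearMap.comp (Matrix.toLin' (wm 1 gs)))
    (g := (rootMap a (fn h b) (Matrix.toLin' (wm 1 fun j : Rst i => gs j.1))).comp (spV i).toLinearMap)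
    (ext_ptens fun w => ?_) x
  simp only [LinearMap.comp_apply, LinearEquiv.coe_coe, Matrix.toLin'_apply, wm_mulVec, spV_ptens, rootMap_apply,
    slice_tmul, map_smul, Equiv.Perm.coe_one, id_eq, hi, Matrix.vecMulVec_mulVec, op_smul_eq_smul, tmul_smul_right,
    tmul_smul_left]

/-- An element moving a pure tensor off the pure tensors is not in the stabiliser. -/
theorem not_mem_Wr_of_move {T : GL X F} {r : F} (hr : r ≠ 0) (a b ξ ξ' : κ → β → F)
    (hT : (T : Mn) *ᵥ ptens a = ptens a + r • ptens b) (h1 : ∀ l, ξ l ⬝ᵥ a l = 1) (h2 : ∀ l, ξ' l ⬝ᵥ b l = 1)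
    {j k : κ} (hjk : j ≠ k) (hj : ξ j ⬝ᵥ b j = 0) (hj' : ξ' j ⬝ᵥ a j = 0) (hk' : ξ' k ⬝ᵥ a k = 0) :
    T ∉ Wr F κ β := by
  classical
  rintro ⟨π, ws, rfl⟩
  rw [wgl_mulVec] at hT
  set w : κ → β → F := fun l => (ws l : Mb) *ᵥ a (π l)
  have key : ∀ η : κ → β → F, ∏ l, η l ⬝ᵥ w l = (∏ l, η l ⬝ᵥ a l) + r * ∏ l, η l ⬝ᵥ b l := fun η => by
    have h3 := congrArg (ptens η ⬝ᵥ ·) hT
    simp only [dotProduct_add, dotProduct_smul, dot_ptens, smul_eq_mul] at h3
    exact h3
  have hA : ∏ l, ξ l ⬝ᵥ w l = 1 := by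
    rw [key, Finset.prod_eq_one fun l _ => h1 l, Finset.prod_eq_zero (Finset.mem_univ j) hj, mul_zero, add_zero]
  have hB : ∏ l, ξ' l ⬝ᵥ w l = r := by
    rw [key, Finset.prod_eq_one (f := fun l => ξ' l ⬝ᵥ b l) fun l _ => h2 l,
      Finset.prod_eq_zero (Finset.mem_univ j) hj', zero_add, mul_one]
  have hm : ∏ l, Function.update ξ' j (ξ j) l ⬝ᵥ w l = 0 := by
    rw [key, Finset.prod_eq_zero (Finset.mem_univ k) (by rw [Function.update_of_ne hjk.symm, hk']),
      Finset.prod_eq_zero (Finset.mem_univ j) (by rw [Function.update_self, hj]), mul_zero, add_zero]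
  obtain ⟨l, -, hl⟩ := Finset.prod_eq_zero_iff.1 hm
  rcases eq_or_ne l j with rfl | e
  · rw [Function.update_self] at hl
    exact one_ne_zero (hA.symm.trans (Finset.prod_eq_zero (Finset.mem_univ l) hl))
  · rw [Function.update_of_ne e] at hl
    exact hr (hB.symm.trans (Finset.prod_eq_zero (Finset.mem_univ l) hl))

/-- A transvection at a factor conjugated into the stabiliser: a line to a line. -/
theorem line_of_tv_mem {g : GL X F} {i : κ} {v φ : β → F} {A : GL β F} (hb : 4 ≤ Fintype.card β)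
    (ht : 2 ≤ Fintype.card κ) (hv : v ≠ 0) (hφ : φ ≠ 0) (hφv : φ ⬝ᵥ v = 0) (hA : (A : Mb) = 1 + vecMulVec v φ)
    (hg : g * pe i A * g⁻¹ ∈ Wr F κ β) :
    ∃ (j : κ) (w : β → F), w ≠ 0 ∧ (line i v).map (Matrix.toLin' (g : Mn)) = line j w := by
  obtain ⟨hq, hr⟩ := isTv_quad (κ := κ) (i := i) ⟨v, φ, A, hv, hφ, hφv, hA, rfl⟩
  rcases classify (by omega) ht hg ((quad_conj g _).1 hq) ((quad_conj g _).2.trans hr) with ⟨j, hj⟩ | ⟨-, hm, -⟩
  · exact ⟨j, line_of_tv_conj hv hφ hA hj⟩
  · omega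

variable {c : F} {h : (β → F) → (β → F) → F}

/-- The derived group does not stabilise the decomposition. -/
theorem gt_not_le_Wr (hT : SData c h) (h2 : (2 : F) = 0) (hk : 6 ≤ Fintype.card β) (ht : 2 ≤ Fintype.card κ) :
    ¬ GT (κ := κ) c h ≤ Wr F κ β := by
  classical
  intro hle
  have hh := hT.hh
  have hs := symp_symm hh h2
  obtain ⟨b₀⟩ : Nonempty β := Fintype.card_pos_iff.1 (by omega)
  have hz0 : (Pi.single b₀ 1 : β → F) ≠ 0 := by simp
  generalize (Pi.single b₀ 1 : β → F) = z at hz0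
  obtain ⟨u, huz, -⟩ := hh.partner hz0
  have hzu : h z u = 1 := by rw [hs, huz]
  obtain ⟨y, hzy, -, -, hout, -⟩ := (jL_alt hh).mid hk z z z
  change fn h z ⬝ᵥ y = 0 at hzy
  rw [fn_dot hh.toSesq] at hzy
  have hout' : y ∉ (F ∙ z) := fun hm => hout (Submodule.span_mono (by simp) hm)
  have hy0 : y ≠ 0 := fun e => hout' (e ▸ zero_mem _)
  obtain ⟨j, k, hjk⟩ := Fintype.exists_pair_of_one_lt_card (show 1 < Fintype.card κ by omega)
  obtain ⟨a, ha1, ha0⟩ := (jL_alt hh).pick (u := z) (S := F ∙ y) fun hm => by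
    obtain ⟨r, hr⟩ := Submodule.mem_span_singleton.1 hm
    have hr0 : r ≠ 0 := fun e => hz0 (by rw [← hr, e, zero_smul])
    exact hout' (Submodule.mem_span_singleton.2 ⟨r⁻¹, by rw [← hr, smul_smul, inv_mul_cancel₀ hr0, one_smul]⟩)
  have hay : h a y = 0 := by
    rw [← fn_dot hh.toSesq]; exact ha0 y (Submodule.mem_span_singleton_self y)
  have haz : h a z = 1 := by rw [← fn_dot hh.toSesq]; exact ha1
  obtain ⟨T, hTG, hTm⟩ := siegel_ptens hT h2 hk ht (fun _ : κ => z) (Function.update (fun _ => z) j y) (j := j)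
    (by rw [Function.update_self, hs]; exact hzy)
  have hya : y ∉ (F ∙ a) := fun hm => by
    obtain ⟨r, hr⟩ := Submodule.mem_span_singleton.1 hm
    have h3 : h y z = r := by rw [← hr, hh.smul_left, haz, mul_one]
    rw [hzy] at h3
    exact hy0 (by rw [← hr, ← h3, zero_smul])
  obtain ⟨ψ, hψ1, hψ0⟩ := exists_dot_one hya
  refine not_mem_Wr_of_move hT.hc (Function.update (fun _ => u) j a) (Function.update (fun _ => z) j y)
    (fun _ => fn h z) (Function.update (fun _ => fn h u) j ψ) ?_ (fun l => ?_) (fun l => ?_) hjk ?_ ?_ ?_ (hle hTG)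
  · rw [hTm, Matrix.add_mulVec, Matrix.add_mulVec, Matrix.one_mulVec, Matrix.smul_mulVec, Matrix.smul_mulVec,
      wm_mulVec, wm_mulVec]
    have e0 : (ptens fun l => vecMulVec z (fn h (Function.update (fun _ : κ => z) j y l)) *ᵥ
        Function.update (fun _ : κ => u) j a ((1 : Equiv.Perm κ) l)) = 0 :=
      funext fun p => Finset.prod_eq_zero (Finset.mem_univ j) (by
        simp [Matrix.vecMulVec_mulVec, fn_dot hh.toSesq, hay])
    have e1 : (ptens fun l => vecMulVec (Function.update (fun _ : κ => z) j y l) (fn h z) *ᵥ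
        Function.update (fun _ : κ => u) j a ((1 : Equiv.Perm κ) l)) =
          ptens (Function.update (fun _ : κ => z) j y) := by
      congr 1
      funext l
      by_cases e : l = j
      · subst e; simp [Matrix.vecMulVec_mulVec, fn_dot hh.toSesq, haz]
      · simp [e, Matrix.vecMulVec_mulVec, fn_dot hh.toSesq, huz]
    rw [e0, e1, smul_zero, add_zero]
  · by_cases e : l = j
    · subst e; rw [Function.update_self, fn_dot hh.toSesq, haz]
    · rw [Function.update_of_ne e, fn_dot hh.toSesq, huz]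
  · by_cases e : l = j
    · subst e; rw [Function.update_self, Function.update_self, hψ1]
    · rw [Function.update_of_ne e, Function.update_of_ne e, fn_dot hh.toSesq, hzu]
  · rw [Function.update_self, fn_dot hh.toSesq]; exact hzy
  · rw [Function.update_self, Function.update_self]; exact hψ0 a (Submodule.mem_span_singleton_self a)
  · rw [Function.update_of_ne hjk.symm, Function.update_of_ne hjk.symm, fn_dot hh.toSesq, hh.self]

variable {M : Subgroup (GL (κ → β) F)}

namespace PxE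

variable (hM : PxE c h M)
include hM

/-- An element mapping one line of tensors to a line has product shape. -/
theorem isKron_of_line {i : κ} {g : GL ((Rst i → β) × β) F} (hg : g ∈ Mi M i) {y : β → F} (hy : y ≠ 0)
    (hl : IsLine g y) : IsKron g := by
  classical
  haveI : Nonempty β := Fintype.card_pos_iff.1 (by have := hM.hk; omega)
  have hh := hM.data.hh
  have hJ := hM.toECx.frm i
  obtain ⟨i₀⟩ : Nonempty (Rst i → β) := inferInstance
  have hx₀ : (Pi.single i₀ 1 : (Rst i → β) → F) ≠ 0 := by simp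
  have spread : ∀ {y v : β → F}, y ≠ 0 → v ≠ 0 → h y v = 0 → IsLine g y → IsLine g v := by
    rintro y v hy hv hyv ⟨z, hz⟩
    have hz0 : z ≠ 0 := IsLine.target_ne hy hz
    choose G hG using hz
    have hGs : Function.Surjective G := by
      refine Finite.injective_iff_surjective.1 fun a b e => fac_injective hy (gl_mulVec_injective g ?_)
      show (g : Matrix ((Rst i → β) × β) ((Rst i → β) × β) F) *ᵥ tmul a y = (g : Matrix ((Rst i → β) × β) ((Rst i → β) × β) F) *ᵥ tmul b y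
      rw [hG, hG, e]
    obtain ⟨R, hR, -, hRx⟩ := hJ.root v (by rw [hM.dot, hh.self])
    have hkM : g * R * g⁻¹ ∈ Mi M i := mul_mem (mul_mem hg hR) (inv_mem hg)
    have hfix : ∀ x, ((g * R * g⁻¹ : GL ((Rst i → β) × β) F) : Matrix ((Rst i → β) × β) ((Rst i → β) × β) F) *ᵥ tmul x z = tmul x z := fun x => by
      obtain ⟨x', rfl⟩ := hGs x
      rw [Units.val_mul, Units.val_mul, ← Matrix.mulVec_mulVec, ← Matrix.mulVec_mulVec, ← hG, inv_mulVec_cancel,
        hRx, rootMap_apply, slice_tmul, hM.dot, hyv, zero_smul, map_zero, tmul_zero_left, add_zero]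
    obtain ⟨A, B, hAB⟩ := kron_of_fix hJ (hM.scal i) hkM (by rw [hM.dot, hh.self]) hz0 hfix
    obtain ⟨ψ, hψ⟩ := exists_dual hz0
    obtain ⟨r, hr⟩ : ∃ r, r = ψ ⬝ᵥ ((B : Mb) *ᵥ z) := ⟨_, rfl⟩
    have hA : ∀ x, r • ((A : Matrix (Rst i → β) (Rst i → β) F) *ᵥ x) = x := fun x => by
      have h1 := congrArg (slice ψ) (hfix x)
      rwa [hAB, kronecker_mulVec, slice_tmul, slice_tmul, hψ, one_smul, ← hr] at h1
    have hr0 : r ≠ 0 := fun e => hx₀ (by rw [← hA (Pi.single i₀ 1), e, zero_smul])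
    have hk : ∀ x t, ((g * R * g⁻¹ : GL ((Rst i → β) × β) F) : Matrix ((Rst i → β) × β) ((Rst i → β) × β) F) *ᵥ tmul x t = tmul x (r⁻¹ • ((B : Mb) *ᵥ t)) :=
      fun x t => by
        rw [hAB, kronecker_mulVec]
        conv_rhs => rw [← hA x]
        rw [tmul_smul_left, tmul_smul_right, smul_smul, mul_inv_cancel₀ hr0, one_smul]
    have hd : ∀ x t, (g : Matrix ((Rst i → β) × β) ((Rst i → β) × β) F) *ᵥ tmul (slice (fn h v) (((g⁻¹ : GL ((Rst i → β) × β) F) : Matrix ((Rst i → β) × β) ((Rst i → β) × β) F) *ᵥ tmul x t)) v =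
        tmul x (r⁻¹ • ((B : Mb) *ᵥ t) - t) := fun x t => by
      rw [tmul_sub_right, ← hk, Units.val_mul, Units.val_mul, ← Matrix.mulVec_mulVec, ← Matrix.mulVec_mulVec, hRx,
        Matrix.mulVec_add, mulVec_inv_cancel, add_sub_cancel_left, rootMap_apply, LinearMap.id_apply, one_smul]
    obtain ⟨t, ht⟩ : ∃ t, r⁻¹ • ((B : Mb) *ᵥ t) - t ≠ 0 := by
      by_contra hc
      push Not at hc
      obtain ⟨d, hd1, -⟩ := hM.toECx.pick (u := v) (S := ⊥) fun h' => hv ((Submodule.mem_bot F).1 h')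
      obtain ⟨s, hs⟩ : ∃ s, (g : Matrix ((Rst i → β) × β) ((Rst i → β) × β) F) *ᵥ tmul (Pi.single i₀ 1) d = s := ⟨_, rfl⟩
      have h0 : ((g * R * g⁻¹ : GL ((Rst i → β) × β) F) : Matrix ((Rst i → β) × β) ((Rst i → β) × β) F) *ᵥ s = s := by
        refine LinearMap.congr_fun (f := Matrix.toLin' ((g * R * g⁻¹ : GL ((Rst i → β) × β) F) : Matrix ((Rst i → β) × β) ((Rst i → β) × β) F)) (g := LinearMap.id)
          (ext_tmul fun x t => ?_) s
        rw [Matrix.toLin'_apply, hk, sub_eq_zero.1 (hc t), LinearMap.id_apply]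
      rw [← hs, Units.val_mul, Units.val_mul, ← Matrix.mulVec_mulVec, ← Matrix.mulVec_mulVec, inv_mulVec_cancel] at h0
      have h1 := gl_mulVec_injective g h0
      rw [hRx, rootMap_apply, slice_tmul, hd1, one_smul, LinearMap.id_apply, add_eq_left, one_smul] at h1
      exact tmul_ne_zero hx₀ hv h1
    obtain ⟨φ, hφ⟩ : ∃ φ : ((Rst i → β) → F) → ((Rst i → β) → F), φ = fun x =>
      slice (fn h v) (((g⁻¹ : GL ((Rst i → β) × β) F) : Matrix ((Rst i → β) × β) ((Rst i → β) × β) F) *ᵥ tmul x (t : β → F)) := ⟨_, rfl⟩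
    have hφs : Function.Surjective φ := Finite.injective_iff_surjective.1 fun x x' e => fac_injective ht (by
      rw [hφ] at e
      show tmul x _ = tmul x' _
      rw [← hd, ← hd]
      exact congrArg (fun s => (g : Matrix ((Rst i → β) × β) ((Rst i → β) × β) F) *ᵥ tmul s v) e)
    refine ⟨r⁻¹ • ((B : Mb) *ᵥ t) - t, fun x => ?_⟩
    obtain ⟨x', hx'⟩ := hφs x
    exact ⟨x', by rw [← hx', hφ]; exact hd x' t⟩
  refine isKron_of_lines fun v hv => ?_
  obtain ⟨d, hyd, hvd, -, hout, -⟩ := hM.toECx.mid y v v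
  rw [hM.dot] at hyd hvd
  have hd0 : d ≠ 0 := fun e => hout (e ▸ zero_mem _)
  exact spread hd0 hv hvd (spread hy hd0 (hh.refl _ _ hyd) hl)

/-- The other factors give a proper overgroup of their stabiliser. -/
theorem not_all_rest {i : κ} (hR : 2 ≤ Fintype.card (Rst i)) : ∃ T ∈ GT (κ := Rst i) c h, emb i T ∉ M := by
  classical
  have hh := hM.data.hh
  obtain ⟨b₀⟩ : Nonempty β := Fintype.card_pos_iff.1 (by have := hM.hk; omega)
  have hz0 : (Pi.single b₀ 1 : β → F) ≠ 0 := by simp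
  generalize (Pi.single b₀ 1 : β → F) = z at hz0
  obtain ⟨y, hzy, -, -, hout, -⟩ := hM.toECx.mid z z z
  have hind : y ∉ (F ∙ z) := fun hm => hout (Submodule.span_mono (by simp) hm)
  have hf : Flag (fn h) z y := ⟨by rw [hM.dot, hh.self], by rw [hM.dot, hh.self], hzy, hind, hz0⟩
  rw [hM.dot] at hzy
  obtain ⟨j, k, hjk⟩ := Fintype.exists_pair_of_one_lt_card (show 1 < Fintype.card (Rst i) by omega)
  obtain ⟨T, hT, hTm⟩ := siegel_ptens hM.data hM.h2 hM.hk hR (fun _ : Rst i => z)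
    (Function.update (fun _ => z) j y) (j := j) (by rw [Function.update_self]; exact hh.refl _ _ hzy)
  refine ⟨T, hT, fun hin => ?_⟩
  let e1 : κ → Mb := fun l => if hl : l = i then 1 else
    vecMulVec (Function.update (fun _ => z) j y (⟨l, hl⟩ : Rst i)) (fn h z)
  let e2 : κ → Mb := fun l => if hl : l = i then 1 else
    vecMulVec z (fn h (Function.update (fun _ => z) j y (⟨l, hl⟩ : Rst i)))
  have hg'v : ((emb i T : GL X F) : Mn) = 1 + c • wm 1 e1 + c • wm 1 e2 := by
    refine Matrix.toLin'.injective (ext_ptens fun w => (spV i).injective ?_)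
    rw [Matrix.toLin'_apply, Matrix.toLin'_apply, ← sp_mulVec, sp_emb, spV_ptens, k2_mulVec, hTm]
    simp only [Matrix.add_mulVec, Matrix.one_mulVec, Matrix.smul_mulVec, wm_mulVec, map_add, map_smul, spV_ptens,
      Units.val_one, tmul_add_left, tmul_smul_left, Equiv.Perm.coe_one, id_eq, e1, e2, dite_true]
    congr 5 <;> funext l <;> rw [dif_neg l.2]
  obtain ⟨W, hW⟩ : ∃ W, W = c • Matrix.toLin' (wm (1 : Equiv.Perm (Rst j.1)) fun l => e1 l.1) := ⟨_, rfl⟩
  have he2 : (fun l : Rst j.1 => e2 l.1) = fun l => e1 l.1 := funext fun l => by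
    simp only [e1, e2]
    split_ifs with hl
    · rfl
    · rw [Function.update_of_ne fun e => l.2 (congrArg Subtype.val e)]
  have hj1 : e1 j.1 = vecMulVec y (fn h z) := by simp [e1, j.2]
  have hj2 : e2 j.1 = vecMulVec z (fn h y) := by simp [e2, j.2]
  have hinP : InP (Mi M j.1) (fn h) z y W := by
    refine ⟨W, (in_sp (L := c • Matrix.toLin' (wm 1 e2) + c • Matrix.toLin' (wm 1 e1)) fun x => ?_).2
      ⟨emb i T, hin, fun t => ?_⟩⟩
    · rw [LinearMap.add_apply, LinearMap.smul_apply, LinearMap.smul_apply, map_add, map_smul, map_smul,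
        wm_sp e2 hj2, wm_sp e1 hj1, he2, hW, LinearMap.add_apply, ← rootMap_smul, ← rootMap_smul]
      rfl
    · rw [hg'v, Matrix.add_mulVec, Matrix.add_mulVec, Matrix.one_mulVec, Matrix.smul_mulVec, Matrix.smul_mulVec,
        add_assoc]
      congr 1
      exact add_comm _ _
  obtain ⟨μ, hμ⟩ := hM.scal j.1 z y W hf hinP
  have hkj : k.1 ≠ j.1 := fun e => hjk (Subtype.ext e).symm
  have hWm : wm (1 : Equiv.Perm (Rst j.1)) (fun l => e1 l.1) = (μ / c) • 1 := by
    refine Matrix.toLin'.injective (LinearMap.ext fun x => ?_)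
    have h1 := hμ x
    rw [hW, LinearMap.smul_apply] at h1
    rw [map_smul, Matrix.toLin'_one, LinearMap.smul_apply, LinearMap.id_apply, div_eq_inv_mul, mul_smul, ← h1,
      smul_smul, inv_mul_cancel₀ hM.data.hc, one_smul]
  have hsq : wm (1 : Equiv.Perm (Rst j.1)) (fun l => e1 l.1) * wm 1 (fun l => e1 l.1) = 0 := by
    rw [wm1_mul]
    ext x y'
    rw [wm, Matrix.of_apply, Finset.prod_eq_zero (Finset.mem_univ (⟨k.1, hkj⟩ : Rst j.1))]
    · rfl
    · simp [e1, k.2, Function.update_of_ne (Ne.symm hjk), vmv_mul, fn_dot hh.toSesq, hh.self]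
  haveI : Nonempty β := ⟨b₀⟩
  rw [hWm, Matrix.smul_mul, one_mul, smul_smul, smul_eq_zero] at hsq
  have hc0 : μ / c = 0 := mul_self_eq_zero.1 (hsq.resolve_right one_ne_zero)
  refine wm_eq_zero_iff (fun l : Rst j.1 => e1 l.1) (fun l => ?_) (by rw [hWm, hc0, zero_smul])
  simp only [e1]
  split_ifs with hl
  · exact one_ne_zero
  · rw [Function.update_of_ne fun e => l.2 (congrArg Subtype.val e)]
    exact vmv_ne_zero hz0 fun e => hz0 (fn_injective hh.toSesq (e.trans (fn_zero hh.toSesq).symm))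

/-- The elements of product shape at a factor. -/
theorem kron_mem {i : κ} {g : GL X F} (hg : g ∈ M) {A : GL (Rst i → β) F} {B : GL β F}
    (hAB : sp i g = k2 A B) : g ∈ Wr F κ β := by
  classical
  have hk := hM.hk
  have hh := hM.data.hh
  haveI : Nontrivial β := Fintype.one_lt_card_iff_nontrivial.1 (by omega)
  by_cases h3 : Fintype.card κ ≤ 2
  · exact kron_mem_Wr_two h3 hAB
  have hR2 : 2 ≤ Fintype.card (Rst i) := by have := card_rst_one i; omega
  haveI : Nonempty (Rst i) := Fintype.card_pos_iff.1 (by omega)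
  obtain ⟨μ, -, hμ⟩ := hM.data.exists_simil hM.hb (hM.le hg) hAB
  obtain ⟨T, hT, hTn⟩ := hM.not_all_rest hR2
  have hQle : M.comap (emb i) ⊓ Iso (tf (κ := Rst i) c h) ≤ Wr F (Rst i) β := by
    refine hM.ih i hR2 _ inf_le_right ?_ fun hall => hTn (hall hT).1
    rintro A' ⟨hA', hd⟩
    exact ⟨hM.mem ⟨mem_Wr_of_sp (sp_emb i A') hA', hM.data.emb_GT hd⟩, GT_le_Iso hd⟩
  refine mem_Wr_of_sp hAB (mem_Wr_of_lines _ (Rst i) rfl A fun j v hv => ?_)
  obtain ⟨B', hB', hB'm, -, -⟩ := hh.exists_tv v 1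
  rw [one_smul, vN] at hB'm
  refine line_of_tv_mem (by omega) hR2 hv (fun e => hv (fn_injective hh.toSesq (e.trans (fn_zero hh.toSesq).symm)))
    (by rw [fn_dot hh.toSesq, hh.self]) hB'm (hQle ⟨?_, ?_⟩)
  · show emb i (A * pe j B' * A⁻¹) ∈ M
    rw [← mem_Mi (i := i), sp_emb]
    have e : k2 (A * pe j B' * A⁻¹) (1 : GL β F) = sp i g * k2 (pe j B') 1 * (sp i g)⁻¹ := by
      rw [hAB, eq_mul_inv_iff_mul_eq, k2_mul, k2_mul, inv_mul_cancel_right, one_mul, mul_one]
    rw [e]
    exact mul_mem (mul_mem (mem_Mi.2 hg) (hM.toCx.kA_mem j hB')) (inv_mem (mem_Mi.2 hg))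
  · haveI := nonempty_rst hR2 j
    exact conj_Iso hμ (hM.data.pe_KT j hB').1

/-- A line mapped to a line at the same factor: in the stabiliser. -/
theorem line_mem {j : κ} {w : β → F} (hw0 : w ≠ 0) {f : GL X F} (hf : f ∈ M)
    (hline : (line j w).map (Matrix.toLin' (f : Mn)) ≤ line j w) : f ∈ Wr F κ β := by
  have hk := hM.isKron_of_line (mem_Mi.2 hf) hw0 (g := sp j f) ⟨w, fun x => by
    obtain ⟨r, hr⟩ := mem_line_iff.1 (hline (Submodule.mem_map_of_mem
      (mem_line_iff.2 ⟨x, LinearEquiv.apply_symm_apply (spV j) (tmul x w)⟩)))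
    refine ⟨r, ?_⟩
    rw [← LinearEquiv.apply_symm_apply (spV j) (tmul x w), sp_mulVec, ← hr]
    rfl⟩
  obtain ⟨A, B, hAB⟩ := isKron_iff.1 hk
  exact hM.kron_mem hf hAB

/-- A line mapped to a line: in the stabiliser. -/
theorem line_to_line {g : GL X F} (hg : g ∈ M) {i j : κ} {v w : β → F} (hv0 : v ≠ 0)
    (hw0 : w ≠ 0) (hgv : (line i v).map (Matrix.toLin' (g : Mn)) = line j w) : g ∈ Wr F κ β := by
  classical
  have hh := hM.data.hh
  have hk := hM.hk
  haveI : Nonempty κ := ⟨i⟩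
  haveI : Nontrivial β := Fintype.one_lt_card_iff_nontrivial.1 (by omega)
  have step : ∀ (i' j' l : κ) (v' w' u : β → F), v' ≠ 0 → w' ≠ 0 →
      (line i' v').map (Matrix.toLin' (g : Mn)) = line j' w' → l ≠ i' → u ≠ 0 →
      ∃ (m : κ) (z : β → F), z ≠ 0 ∧ (line l u).map (Matrix.toLin' (g : Mn)) = line m z := by
    intro i' j' l v' w' u hv'0 hw'0 hm hli hu0
    obtain ⟨B, hB, hBm, -, -⟩ := hh.exists_tv u 1
    rw [one_smul, vN] at hBm
    refine line_of_tv_mem (by omega) hM.ht hu0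
      (fun e => hu0 (fn_injective hh.toSesq (e.trans (fn_zero hh.toSesq).symm)))
      (by rw [fn_dot hh.toSesq, hh.self]) hBm ?_
    have hfM : g * pe l B * g⁻¹ ∈ M := mul_mem (mul_mem hg (hM.toCx.pe_mem l hB)) (inv_mem hg)
    refine hM.line_mem (j := j') hw'0 hfM (le_of_eq ?_)
    rw [← hm, map_mul_line, map_mul_line, ← map_mul_line g⁻¹ g, inv_mul_cancel, Units.val_one, Matrix.toLin'_one,
      Submodule.map_id, map_line_of_kron (sp_pe_ne hli B) hv'0, Units.val_one, Matrix.one_mulVec]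
  obtain ⟨l₀, hl₀⟩ := Fintype.exists_ne_of_one_lt_card (show 1 < Fintype.card κ by have := hM.ht; omega) i
  refine mem_Wr_of_lines _ κ rfl g fun l u hu0 => ?_
  rcases eq_or_ne l i with rfl | hli
  · obtain ⟨m, z, hz0, hm⟩ := step l j l₀ v w v hv0 hw0 hgv hl₀ hv0
    exact step l₀ m l v z u hv0 hz0 hm (Ne.symm hl₀) hu0
  · exact step i j l v w u hv0 hw0 hgv hli hu0

/-- Fusion of transvections at the factors. -/
theorem fusion {g : GL X F} (hg : g ∈ M) {i : κ} {v φ : β → F} (hv0 : v ≠ 0) (hφ : φ ≠ 0) (hφv : φ ⬝ᵥ v = 0)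
    {A : GL β F} (hA : (A : Mb) = 1 + vecMulVec v φ) (hgW : g * pe i A * g⁻¹ ∈ Wr F κ β) : g ∈ Wr F κ β := by
  have hk := hM.hk
  obtain ⟨j, w, hw, hm⟩ := line_of_tv_mem (by omega) hM.ht hv0 hφ hφv hA hgW
  exact hM.line_to_line hg hv0 hw hm

end PxE

end Cfsg.Agent.Classical.TensorSympEven
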