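import Cfsg.Agent.Lib.Classical.TensorPowSympEven.Invol
import Cfsg.Agent.Lib.Classical.TensorPowSymp.Max
import Cfsg.Agent.Lib.Classical.TensorPowSymp.OrthApp

/-!
Characteristic two, factors of dimension at least six: maximality of the stabiliser of a tensor power decomposition.
-/

set_option autoImplicit false
set_option linter.unusedSectionVars false

namespace Cfsg.Agent.Classical.TensorSympEven

open Matrix Module MaxTv TensorPow
open Cfsg.Agent.Classical.TensorSymp (SData tf GT GT_le_Iso MaxAt powE)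

variable {F : Type*} [Field F] [Fintype F]

section

variable {β : Type} [Fintype β] [DecidableEq β] {c : F} {h : (β → F) → (β → F) → F}

/-- Maximality in coordinates. -/
theorem maxAt (hT : SData c h) (h2 : (2 : F) = 0) (hk : 6 ≤ Fintype.card β) :
    ∀ (t : ℕ) (κ : Type) [Fintype κ] [DecidableEq κ] [Nonempty κ], Fintype.card κ = t → MaxAt c h κ := by
  intro t
  induction t using Nat.strong_induction_on with
  | _ t ih =>
    intro κ _ _ _ hcard M hle hH hns g hg
    classical
    obtain ⟨i⟩ := ‹Nonempty κ›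
    by_cases hsub : ∀ l : κ, l = i
    · exact one_of_subsingleton hsub g
    push Not at hsub
    obtain ⟨l₀, hl₀⟩ := hsub
    have ht : 2 ≤ Fintype.card κ := Fintype.one_lt_card_iff.2 ⟨l₀, i, hl₀⟩
    have hO : ECx c h M := ⟨⟨hT, hle, hH, by omega, ht, Or.inl (by omega)⟩, h2, hk⟩
    have hM : PxE c h M := ⟨hO, hO.scal_of_proper hns, fun j hj2 => by
      haveI : Nonempty (Rst j) := Fintype.card_pos_iff.1 (by omega)
      exact ih _ (hcard ▸ Fintype.card_subtype_lt (x := j) (by simp)) (Rst j) rfl⟩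
    exact hM.le_of_even h2 hg

end

/-- Maximality of the stabiliser among the derived group of the isometries of the quadratic form. -/
theorem orth_maximal_even {ι : Type} [Fintype ι] [DecidableEq ι] {k t : ℕ} {Q : (ι → F) → F}
    {f₁ : (Fin k → F) → (Fin k → F) → F} {c : F} {e : ι ≃ (Fin t → Fin k)} {P : GL ι F}
    (hD : SData c f₁) (h2 : (2 : F) = 0) (hk : 6 ≤ k) (ht : 2 ≤ t) (hQ : Geo.IsNondegenerateQuadraticForm Q)
    (hpol : ∀ x y, QuadraticMap.polar Q (powE e P x) (powE e P y) = tf (κ := Fin t) c f₁ x y)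
    (hpure : ∀ xs : Fin t → Fin k → F, Q (powE e P (ptens xs)) = 0) :
    Geo.IsMaximalIn (Geo.omegaGL Q) (Geo.tensorWreathSubgroup k t e P ⊓ Geo.omegaGL Q) := by
  haveI : Nonempty (Fin t) := ⟨⟨0, by omega⟩⟩
  have hk' : 6 ≤ Fintype.card (Fin k) := by rwa [Fintype.card_fin]
  exact hD.orth_maximal_of (by omega) hQ hpol hpure
    (gt_not_le_Wr hD h2 hk' (by rwa [Fintype.card_fin]))
    fun M hle hH hns => maxAt hD h2 hk' t (Fin t) (Fintype.card_fin t) M (fun x hx => GT_le_Iso (hle hx)) hH hns

end Cfsg.Agent.Classical.TensorSympEven
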