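import Cfsg.Agent.Lib.Classical.TensorPowSympEven.Siegel

/-!
Characteristic two: a non-scalar coefficient gives the derived group of the isometries.
-/

set_option autoImplicit false
set_option linter.unusedSectionVars false
set_option linter.unusedSimpArgs false

namespace Cfsg.Agent.Classical.TensorSympEven

open Matrix Module MaxTv TensorPow Overfield OrthAut
open Cfsg.Agent.Classical.TensorMax hiding Frm symm_zero J_zero isolate mem_span_swap flag_scale moveR moveL moveR' moveL'
  pCoef_of_inP exists_J scalAt_upMap adj_line fix_perp kron_of_fix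
open Cfsg.Agent.Classical.TensorSymp hiding Scal

variable {F : Type*} [Field F] [Fintype F] {κ β : Type} [Fintype κ] [DecidableEq κ] [Fintype β] [DecidableEq β]

local notation "Mn" => Matrix (κ → β) (κ → β) F

variable {c : F} {h : (β → F) → (β → F) → F} {M : Subgroup (GL (κ → β) F)}

/-- The split of the space at a factor. -/
theorem epair (hT : SData c h) (h2 : (2 : F) = 0) (hk : 6 ≤ Fintype.card β) (i : κ) [Nonempty κ] [Nonempty (Rst i)]
    (ht : 2 ≤ Fintype.card κ) :
    ∃ jA : ((Rst i → β) → F) →ₗ[F] ((Rst i → β) → F),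
      EPair (q2 hT h2) (spV i).symm jA (jL hT.hh) (sp (F := F) (β := β) i).symm := by
  have hsR := hT.sesq (κ := Rst i)
  refine ⟨{ toFun := fn (tf c h), map_add' := fn_add hsR,
            map_smul' := fun r a => by rw [fn_smul hsR, RingEquiv.refl_apply]; rfl }, ?_⟩
  refine
    { altA := ⟨fun u => by show fn (tf c h) u ⬝ᵥ u = 0; rw [fn_dot hsR, hT.tf_self_two h2], fn_injective hsR⟩
      altB := jL_alt hT.hh
      compat := fun g t => ?_
      pure := fun x y => hT.qc_pure h2 x y
      pol := fun x y x' y' => ?_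
      nd := q2_nd hT h2
      dimB := hk
      tri := q2_tri hT h2 (card_seven hk ht) }
  · rw [LinearEquiv.eq_symm_apply, ← sp_mulVec, MulEquiv.apply_symm_apply, LinearEquiv.apply_symm_apply]
  · rw [q2_polar]
    show tfs c h i (tmul x y) (tmul x' y') = (fn (tf c h) x ⬝ᵥ x') * (fn h y ⬝ᵥ y')
    rw [hT.tfs_tmul, fn_dot hsR, fn_dot hT.hh.toSesq, symm_two hT h2 x x', symp_symm hT.hh h2 y y']

namespace ECx

variable (hM : ECx c h M)
include hM

/-- A non-scalar coefficient gives the derived group. -/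
theorem rich {i : κ} (hns : ¬ Scal (Mi M i) (fn h)) : GT c h ≤ M := by
  classical
  haveI := hM.nonempty
  haveI := nonempty_rst hM.ht i
  have hM' := hM.inf_KT
  have hns' : ¬ Scal (Mi (M ⊓ KT c h) i) (fn h) := by
    intro hS
    exact hns fun z y A hf hA => hS z y A hf (hM.inP_KT hf hA)
  obtain ⟨jA, hE⟩ := epair hM.data hM.h2 hM.hk i hM.ht
  have hiso : ∀ f ∈ Mi (M ⊓ KT c h) i, ∀ t, q2 hM.data hM.h2 ((spV i).symm ((f : Matrix _ _ F) *ᵥ t)) =
      q2 hM.data hM.h2 ((spV i).symm t) := by
    rintro _ ⟨g, hg, rfl⟩ t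
    obtain ⟨x, rfl⟩ := (spV i).surjective t
    show q2 hM.data hM.h2 ((spV i).symm ((sp i g : Matrix _ _ F) *ᵥ spV i x)) = _
    rw [sp_mulVec, LinearEquiv.symm_apply_apply, LinearEquiv.symm_apply_apply]
    exact hg.2.2 hM.h2 x
  have h1 := hE.omega_le (hM'.frm i) hiso fun x δ => by
    have := hM'.all_coef hns' (LinearMap.toMatrix' (rk1 x δ))
    rwa [Matrix.toLin'_toMatrix'] at this
  intro g hg
  rw [GT_eq_omega hM.data hM.h2, ← q2_coe hM.data hM.h2] at hg
  obtain ⟨f, hf, hfg⟩ := h1 hg
  rw [show g = (sp (F := F) (β := β) i).symm f from hfg.symm]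
  obtain ⟨g', hg', rfl⟩ := hf
  show (sp i).symm (sp i g') ∈ M
  rw [MulEquiv.symm_apply_apply]
  exact hg'.1

/-- A proper overgroup has only scalar coefficients. -/
theorem scal_of_proper (hns : ¬ GT c h ≤ M) (i : κ) : Scal (Mi M i) (fn h) :=
  not_not.1 fun h' => hns (hM.rich h')

end ECx

end Cfsg.Agent.Classical.TensorSympEven
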