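import Cfsg.Agent.Lib.Classical.TensorPowSympEven.Coef

/-!
Characteristic two: all coefficients give all Siegel elements at pure tensors and the derived group.
-/

set_option autoImplicit false
set_option linter.unusedSectionVars false
set_option linter.unusedSimpArgs false

open scoped Kronecker

namespace Cfsg.Agent.Classical.TensorSympEven

open Matrix Module MaxTv Overfield OrthAut
open Cfsg.Agent.Classical.TensorMax hiding Frm symm_zero J_zero isolate mem_span_swap flag_scale moveR moveL moveR' moveL'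
  pCoef_of_inP exists_J scalAt_upMap adj_line fix_perp kron_of_fix

variable {F : Type*} [Field F] [Fintype F] {α β : Type} [Fintype α] [DecidableEq α] [Fintype β] [DecidableEq β]
  {ι : Type} [Fintype ι] [DecidableEq ι]

local notation "V" => (α × β → F)
local notation "Mn" => Matrix (α × β) (α × β) F

/-- An orthogonal space identified with the product of two alternating spaces, pure tensors being singular. -/
structure EPair (Q : QuadraticForm F (ι → F)) (E : (α × β → F) ≃ₗ[F] (ι → F))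
    (jA : (α → F) →ₗ[F] (α → F)) (jB : (β → F) →ₗ[F] (β → F))
    (ψ : GL (α × β) F ≃* GL ι F) : Prop where
  altA : Alt jA
  altB : Alt jB
  compat : ∀ g t, (ψ g : Matrix ι ι F) *ᵥ E t = E ((g : Matrix (α × β) (α × β) F) *ᵥ t)
  pure : ∀ x y, Q (E (tmul x y)) = 0
  pol : ∀ x y x' y', QuadraticMap.polar ⇑Q (E (tmul x y)) (E (tmul x' y')) = (jA x ⬝ᵥ x') * (jB y ⬝ᵥ y')
  nd : (QuadraticMap.polarBilin Q).Nondegenerate
  dimB : 6 ≤ Fintype.card β
  tri : Tri Q

variable {Q : QuadraticForm F (ι → F)} {E : (α × β → F) ≃ₗ[F] (ι → F)}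
  {jA : (α → F) →ₗ[F] (α → F)} {jB : (β → F) →ₗ[F] (β → F)} {ψ : GL (α × β) F ≃* GL ι F}
  {M : Subgroup (GL (α × β) F)}

variable (hs : EPair Q E jA jB ψ)
include hs

/-- The polar form against a pure tensor. -/
theorem EPair.pol_left (x : α → F) (y : β → F) (t : V) :
    QuadraticMap.polar ⇑Q (E (tmul x y)) (E t) = jA x ⬝ᵥ slice (jB y) t := by
  rw [sum_tmul_basis t]
  simp only [map_sum, map_smul, dotProduct_sum, dotProduct_smul, smul_eq_mul, slice_tmul]
  rw [← QuadraticMap.polarBilin_apply_apply, map_sum]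
  refine Finset.sum_congr rfl fun p _ => ?_
  rw [map_smul, QuadraticMap.polarBilin_apply_apply, hs.pol, smul_eq_mul]
  ring

variable (hfrm : Frm M (fun u => jB u) (RingEquiv.refl F) 1 1 1)
  (hisoM : ∀ f ∈ M, ∀ t, Q (E ((f : Matrix (α × β) (α × β) F) *ᵥ t)) = Q (E t))
include hfrm hisoM

/-- With all coefficients, pure tensors have all their Siegel elements. -/
theorem EPair.full_pure (hall : ∀ x δ : α → F, PCoef M (fun u => jB u) (rk1 x δ)) (x : α → F) (z : β → F) :
    Full Q (M.map ψ.toMonoidHom) (E (tmul x z)) := by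
  set N := M.map ψ.toMonoidHom with hN
  have hiso : ∀ k ∈ N, ∀ w, Q ((k : Matrix ι ι F) *ᵥ w) = Q w := fun k hk w => by
    obtain ⟨f, hf, rfl⟩ := Subgroup.mem_map.1 hk
    obtain ⟨t, rfl⟩ := E.surjective w
    show Q ((ψ f : Matrix ι ι F) *ᵥ E t) = _
    rw [hs.compat, hisoM f hf]
  rcases eq_or_ne x 0 with rfl | hx
  · rw [tmul_zero_left, map_zero]; exact full_zero
  rcases eq_or_ne z 0 with rfl | hz
  · rw [tmul_zero_right, map_zero]; exact full_zero
  -- the pair elements
  have hpair : ∀ (x x' : α → F) (z y : β → F), Flag (fun u => jB u) z y →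
      ∃ k ∈ N, (k : Matrix ι ι F) = eMat Q (E (tmul x z)) (E (tmul x' y)) := by
    intro x x' z y hf
    have hzy : jB z ⬝ᵥ y = 0 := hf.zb
    have hyz : jB y ⬝ᵥ z = 0 := by rw [hs.altB.skew, hzy, neg_zero]
    obtain ⟨A', g, hg, hgx⟩ := hall (-x) (jA x') z y hf
    obtain ⟨c, hc, hc0⟩ := hs.altB.pick (show y ∉ Submodule.span F {z} from hf.ind)
    obtain ⟨d, hd, hd0⟩ := hs.altB.pick (show z ∉ Submodule.span F {y} from (flag_swap hfrm hf).ind)
    have hzc := hc0 z (Submodule.mem_span_singleton_self z)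
    have hyd := hd0 y (Submodule.mem_span_singleton_self y)
    -- the other coefficient is determined by the form
    have hA' : ∀ u, A' u = (jA x ⬝ᵥ u) • x' := fun u => by
      refine hs.altA.inj (dotProduct_eq _ _ fun v => ?_)
      have hi : QuadraticMap.polar ⇑Q (E ((g : Mn) *ᵥ tmul v c)) (E ((g : Mn) *ᵥ tmul u d)) =
          QuadraticMap.polar ⇑Q (E (tmul v c)) (E (tmul u d)) := by
        rw [QuadraticMap.polar, QuadraticMap.polar, ← map_add, ← Matrix.mulVec_add, hisoM g hg,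
          hisoM g hg, hisoM g hg, map_add]
      rw [hgx, hgx] at hi
      simp only [LinearMap.add_apply, rootMap_apply, slice_tmul, hc, hd, hzc, hyd, one_smul, zero_smul, map_zero,
        tmul_zero_left, add_zero, zero_add, rk1_apply, tmul_smul_left, map_add, map_smul,
        QuadraticMap.polar_add_left, QuadraticMap.polar_add_right, QuadraticMap.polar_smul_left, hs.pol] at hi
      rw [hs.altB.skew y c, hc] at hi
      rw [hs.altA.skew v (A' u), hs.altA.skew v ((jA x ⬝ᵥ u) • x'), dotProduct_smul, smul_eq_mul]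
      simp only [smul_eq_mul, mul_zero, mul_one, add_zero, map_neg, neg_dotProduct] at hi
      rw [hs.altA.skew v x', hzy] at hi
      linear_combination hi
    refine ⟨ψ g, Subgroup.mem_map_of_mem _ hg, Matrix.ext_iff_mulVec.2 fun w => ?_⟩
    obtain ⟨t, rfl⟩ := E.surjective w
    rw [hs.compat, hgx, eMat_mulVec, hs.pol_left, hs.pol_left, hs.pure, zero_mul, zero_smul, sub_zero]
    simp only [LinearMap.add_apply, rootMap_apply, rk1_apply, hA', smul_neg, tmul_neg_left, tmul_smul_left, map_add,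
      map_neg, map_smul]
    abel
  have ha : Q (E (tmul x z)) = 0 := hs.pure x z
  set R := CR (M := N) ha
  -- vectors orthogonal to `z`
  have hflag : ∀ (x' : α → F) (y : β → F), Flag (fun u => jB u) z y → E (tmul x' y) ∈ R := fun x' y hf => by
    refine ⟨by rw [hs.pol, show jB z ⬝ᵥ y = 0 from hf.zb, mul_zero], fun r => ?_⟩
    obtain ⟨k, hk, hkx⟩ := hpair x (r • x') z y hf
    exact ⟨k, hk, by rw [hkx, tmul_smul_left, map_smul]⟩
  have hperp : ∀ (x' : α → F) (y : β → F), jB z ⬝ᵥ y = 0 → E (tmul x' y) ∈ R := fun x' y hy => by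
    by_cases hm : y ∈ (F ∙ z)
    · obtain ⟨y₀, hz0', -, -, hout, -⟩ := hs.altB.mid hs.dimB z z z
      have hout' : y₀ ∉ (F ∙ z) := fun h => hout (Submodule.span_mono (by simp) h)
      have h1 := hflag x' y₀ ⟨hs.altB.self z, hs.altB.self y₀, hz0', hout', hz⟩
      have h2 := hflag x' (y + y₀) ⟨hs.altB.self z, hs.altB.self _, by rw [dotProduct_add, hy, hz0', add_zero],
        fun h => hout' (by simpa using sub_mem h hm), hz⟩
      have h3 := R.sub_mem h2 h1
      rwa [← map_sub, ← tmul_sub_right, add_sub_cancel_right] at h3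
    · exact hflag x' y ⟨hs.altB.self z, hs.altB.self y, hy, hm, hz⟩
  -- vectors orthogonal to `x`
  have hxperp : ∀ (x' : α → F) (c : β → F), jA x ⬝ᵥ x' = 0 → E (tmul x' c) ∈ R := by
    intro x' c hx'
    rcases eq_or_ne c 0 with rfl | hc0
    · rw [tmul_zero_right, map_zero]; exact zero_mem R
    obtain ⟨d, hzd, hcd, -, hout, -⟩ := hs.altB.mid hs.dimB z c c
    obtain ⟨y₀, hy₀, hy₀0⟩ := hs.altB.pick (show d ∉ Submodule.span F {z} from
      fun h => hout (Submodule.span_mono (by simp) h))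
    have hzy₀ := hy₀0 z (Submodule.mem_span_singleton_self z)
    have hfd : Flag (fun u => jB u) d c := ⟨hs.altB.self d, hs.altB.self c, by
        show jB d ⬝ᵥ c = 0
        rw [hs.altB.skew, hcd, neg_zero], fun hm => hout (by
        obtain ⟨r, hr⟩ := Submodule.mem_span_singleton.1 hm
        have hr0 : r ≠ 0 := fun e => hc0 (by rw [← hr, e, zero_smul])
        exact Submodule.mem_span_pair.2 ⟨0, r⁻¹, by
          rw [zero_smul, zero_add, ← hr, smul_smul, inv_mul_cancel₀ hr0, one_smul]⟩),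
      fun e => hout (e ▸ zero_mem _)⟩
    obtain ⟨k, hk, hkx⟩ := hpair x x' d c hfd
    obtain ⟨x₄, hx₄, -⟩ := hs.altA.pick (S := ⊥) (fun h => hx ((Submodule.mem_bot F).1 h))
    have hkw : ∀ s u, (k : Matrix ι ι F) *ᵥ E (tmul s u) = E (tmul s u) +
        ((jA x ⬝ᵥ s) * (jB d ⬝ᵥ u)) • E (tmul x' c) - ((jA x' ⬝ᵥ s) * (jB c ⬝ᵥ u)) • E (tmul x d) := fun s u => by
      rw [hkx, eMat_mulVec, hs.pol, hs.pol, hs.pure, zero_mul, zero_smul, sub_zero]
    have hka : (k : Matrix ι ι F) *ᵥ E (tmul x z) = E (tmul x z) := by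
      rw [hkw, hs.altA.self, zero_mul, zero_smul, add_zero, hs.altA.skew x x', hx', neg_zero, zero_mul, zero_smul,
        sub_zero]
    have hb := hperp x₄ y₀ hzy₀
    have hkb : (k : Matrix ι ι F) *ᵥ E (tmul x₄ y₀) ∈ R := by
      refine ⟨?_, fun r => ?_⟩
      · rw [← hka, isometry_polar (hiso k hk)]; exact hb.1
      · obtain ⟨t, ht, htx⟩ := hb.2 r
        refine ⟨k * t * k⁻¹, mul_mem (mul_mem hk ht) (inv_mem hk), Matrix.ext_iff_mulVec.2 fun w => ?_⟩
        obtain ⟨w', rfl⟩ : ∃ w', (k : Matrix ι ι F) *ᵥ w' = w := ⟨_, mulVec_inv_cancel k w⟩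
        conv_rhs => rw [← hka]
        rw [Units.val_mul, Units.val_mul, ← Matrix.mulVec_mulVec, ← Matrix.mulVec_mulVec, inv_mulVec_cancel, htx,
          Matrix.mulVec_mulVec, isometry_eMat (hiso k hk), ← Matrix.mulVec_mulVec, Matrix.mulVec_smul]
    have h3 := R.sub_mem hkb hb
    rw [hkw, hy₀, hx₄, one_mul, one_smul] at h3
    have h4 := R.add_mem h3 (R.smul_mem ((jA x' ⬝ᵥ x₄) * (jB c ⬝ᵥ y₀)) (hperp x d hzd))
    rwa [show E (tmul x₄ y₀) + E (tmul x' c) - ((jA x' ⬝ᵥ x₄) * (jB c ⬝ᵥ y₀)) • E (tmul x d) - E (tmul x₄ y₀) +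
      ((jA x' ⬝ᵥ x₄) * (jB c ⬝ᵥ y₀)) • E (tmul x d) = E (tmul x' c) by abel] at h4
  intro w hw
  obtain ⟨t, rfl⟩ := E.surjective w
  obtain ⟨c₀, hc₀, -⟩ := hs.altB.pick (S := ⊥) (fun h => hz ((Submodule.mem_bot F).1 h))
  have hmain : E t ∈ R := by
    have h1 : E (t - tmul (slice (jB z) t) c₀) ∈ R := by
      let Φ : V →ₗ[F] (ι → F) := E.toLinearMap.comp (LinearMap.id - (fac c₀).comp (slice (jB z)))
      show Φ t ∈ R
      rw [sum_tmul_basis t, map_sum]
      refine R.sum_mem fun p _ => ?_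
      rw [map_smul]
      refine R.smul_mem _ ?_
      show E (tmul _ _ - tmul (slice (jB z) (tmul _ _)) c₀) ∈ R
      rw [slice_tmul, tmul_smul_left, ← tmul_smul_right, ← tmul_sub_right]
      refine hperp _ _ ?_
      rw [dotProduct_sub, dotProduct_smul, hc₀, smul_eq_mul, mul_one, sub_self]
    have h2 : E (tmul (slice (jB z) t) c₀) ∈ R := hxperp _ _ (by rw [← hs.pol_left]; exact hw)
    have h3 := R.add_mem h1 h2
    rwa [← map_add, sub_add_cancel] at h3
  obtain ⟨k, hk, hkx⟩ := hmain.2 1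
  exact ⟨k, hk, by rw [hkx, one_smul]⟩

/-- All coefficients give the derived group. -/
theorem EPair.omega_le (hall : ∀ x δ : α → F, PCoef M (fun u => jB u) (rk1 x δ)) :
    Geo.omegaGL ⇑Q ≤ M.map ψ.toMonoidHom := by
  classical
  have hfull := hs.full_pure hfrm hisoM hall
  set N := M.map ψ.toMonoidHom with hN
  have hiso : ∀ k ∈ N, ∀ w, Q ((k : Matrix ι ι F) *ᵥ w) = Q w := fun k hk w => by
    obtain ⟨f, hf, rfl⟩ := Subgroup.mem_map.1 hk
    obtain ⟨t, rfl⟩ := E.surjective w
    show Q ((ψ f : Matrix ι ι F) *ᵥ E t) = _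
    rw [hs.compat, hisoM f hf]
  refine omegaGL_le_of_roots hs.nd hs.tri fun a b hab => ?_
  suffices hFa : Full Q N a from hFa b hab.2.2.1
  have ha : Q a = 0 := hab.1
  rcases eq_or_ne a 0 with rfl | ha0
  · exact full_zero
  obtain ⟨s, rfl⟩ := E.surjective a
  obtain ⟨x, y, hxy⟩ : ∃ x y, QuadraticMap.polar ⇑Q (E (tmul x y)) (E s) ≠ 0 := by
    by_contra hcon
    push Not at hcon
    refine ha0 (hs.nd.1 (E s) fun w => ?_)
    obtain ⟨t, rfl⟩ := E.surjective w
    rw [sum_tmul_basis t]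
    simp only [map_sum, map_smul, QuadraticMap.polarBilin_apply_apply]
    exact Finset.sum_eq_zero fun p _ => by rw [QuadraticMap.polar_comm, hcon, smul_zero]
  set σ₀ := QuadraticMap.polar ⇑Q (E (tmul x y)) (E s) with hσ
  have hx : x ≠ 0 := fun e => hxy (by rw [hσ, e, tmul_zero_left, map_zero, QuadraticMap.polar_zero_left])
  have hy : y ≠ 0 := fun e => hxy (by rw [hσ, e, tmul_zero_right, map_zero, QuadraticMap.polar_zero_left])
  obtain ⟨x', hx', -⟩ := hs.altA.pick (S := ⊥) (fun h => hx ((Submodule.mem_bot F).1 h))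
  obtain ⟨y', hy', -⟩ := hs.altB.pick (S := ⊥) (fun h => hy ((Submodule.mem_bot F).1 h))
  set c' := E (tmul (σ₀ • x') y') with hc'
  have hcc : QuadraticMap.polar ⇑Q (E (tmul x y)) c' = σ₀ := by
    rw [hc', hs.pol, dotProduct_smul, hx', hy', smul_eq_mul, mul_one, mul_one]
  have hQc : Q c' = 0 := hs.pure _ _
  obtain ⟨k, hk, hkx⟩ := hfull x y (σ₀⁻¹ • (c' - E s))
    (by rw [QuadraticMap.polar_smul_right, QuadraticMap.polar_sub_right, hcc, ← hσ, sub_self, smul_zero])
  have hks : (k : Matrix ι ι F) *ᵥ E s = c' := by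
    rw [hkx, eMat_mulVec, ← hσ, smul_smul, mul_inv_cancel₀ hxy, one_smul, QuadraticMap.polar_smul_left,
      QuadraticMap.polar_sub_left, QuadraticMap.map_smul, show c' - E s = c' + (-1 : F) • E s by module, quad_add,
      QuadraticMap.map_smul, hQc, ha, QuadraticMap.polar_smul_right, QuadraticMap.polar_comm _ c' (E s),
      show QuadraticMap.polar ⇑Q (E s) (E s) = 0 by rw [QuadraticMap.polar_self, ha, smul_zero]]
    match_scalars
    all_goals first
      | linear_combination (0 : F)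
      | linear_combination (QuadraticMap.polar ⇑Q (E s) c' * σ₀⁻¹) * mul_inv_cancel₀ hxy
      | (field_simp; ring)
  have := full_map hiso (hfull (σ₀ • x') y') (inv_mem hk)
  rwa [← hc', ← hks, inv_mulVec_cancel] at this

end Cfsg.Agent.Classical.TensorSympEven
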